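import Mathlib.GroupTheory.Sylow
import Cfsg.Prelude.Def_PLocal
import Cfsg.Agent.Lib.H13.Replace
import Cfsg.Agent.Lib.H13.CoprimeHyper
import Cfsg.Agent.Lib.H13.Fix
import Cfsg.Agent.Lib.H13.Quad2

set_option autoImplicit false

/-!
Failure of factorization, part 1: `|A| |C_V(A)| ≤ |V|`.
-/

namespace H13.FF1

open Subgroup
open scoped commutatorElement

universe u

variable {G : Type u} [Group G] {p : ℕ}

/-- Three subgroups lemma in the form used here. -/
theorem three_sub {X Y Z : Subgroup G} (h1 : ⁅⁅X, Y⁆, Z⁆ = ⊥) (h2 : ⁅⁅X, Z⁆, Y⁆ = ⊥) :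
    ⁅⁅Y, Z⁆, X⁆ = ⊥ := by
  apply commutator_commutator_eq_bot_of_rotate
  · rw [commutator_comm Z X]; exact h2
  · exact h1

/-- If `Q₁ = [Q₁, A]` and `A` centralizes the subgroup `X` normalized by `Q₁`, then `Q₁`
centralizes `X`. -/
theorem centralizes_of_comm_eq {X Q₁ A : Subgroup G} (h1 : ⁅X, A⁆ = ⊥)
    (hX : Q₁ ≤ normalizer (X : Set G)) (hQ : Q₁ ≤ ⁅Q₁, A⁆) : ⁅X, Q₁⁆ = ⊥ := by
  have h2 : ⁅⁅X, Q₁⁆, A⁆ = ⊥ := by
    rw [eq_bot_iff, ← h1]
    exact commutator_mono (le_normalizer_iff_commutator_le_left.1 hX) le_rfl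
  have h3 : ⁅⁅X, A⁆, Q₁⁆ = ⊥ := by rw [h1, commutator_bot_left]
  have h4 := three_sub h2 h3
  rw [eq_bot_iff, ← h4, commutator_comm X Q₁]
  exact commutator_mono hQ le_rfl

theorem card_ge_of_lt [Finite G] [hp : Fact p.Prime] {A B : Subgroup G} (hB : IsPGroup p B)
    (h : A < B) : p * Nat.card A ≤ Nat.card B := by
  have h1 := Replace.card_eq_mul_relIndex h.le
  have h2 : A.relIndex B ≠ 1 := fun h2 => h.not_ge (relIndex_eq_one.1 h2)
  obtain ⟨n, hn⟩ := IsPGroup.iff_card.1 hB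
  have h3 : A.relIndex B ∣ p ^ n := by
    rw [← hn]; exact relIndex_dvd_card A B
  obtain ⟨m, -, hm⟩ := (Nat.dvd_prime_pow hp.out).1 h3
  have hm0 : m ≠ 0 := by
    rintro rfl
    exact h2 (by rw [hm, pow_zero])
  rw [h1, hm, mul_comm]
  exact Nat.mul_le_mul_left _ (Nat.le_self_pow hm0 p)

/-- The hypotheses: `V` elementary abelian, `Q` a `p'`-group faithful on `V`, normalized by `A`. -/
structure Setup (p : ℕ) (V Q A : Subgroup G) : Prop where
  hV : Cfsg.IsElementaryAbelian p V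
  hQV : Q ≤ normalizer (V : Set G)
  hQ : (Nat.card Q).Coprime p
  hQf : Q ⊓ centralizer (V : Set G) = ⊥
  hA : Cfsg.IsElementaryAbelian p A
  hAV : A ≤ normalizer (V : Set G)
  hAQ : A ≤ normalizer (Q : Set G)
  hAf : A ⊓ centralizer (Q : Set G) = ⊥

variable {V Q A : Subgroup G}

theorem Setup.mono (h : Setup p V Q A) {B : Subgroup G} (hB : B ≤ A) : Setup p V Q B where
  hV := h.hV
  hQV := h.hQV
  hQ := h.hQ
  hQf := h.hQf
  hA := ElemAb.of_le h.hA hB
  hAV := hB.trans h.hAV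
  hAQ := hB.trans h.hAQ
  hAf := by rw [eq_bot_iff, ← h.hAf]; exact inf_le_inf_right _ hB

/-- For quadratic `A ≠ 1` there is a hyperplane `B` with `C_V(A) < C_V(B)`. -/
theorem exists_hyper_lt [Finite G] [hp : Fact p.Prime] (h : Setup p V Q A)
    (hq : ⁅⁅V, A⁆, A⁆ = ⊥) (hA1 : A ≠ ⊥) :
    ∃ B ≤ A, B.relIndex A = p ∧
      V ⊓ centralizer (A : Set G) < V ⊓ centralizer (B : Set G) := by
  have hAp : IsPGroup p A := ElemAb.isPGroup h.hA
  have hVp : IsPGroup p V := ElemAb.isPGroup h.hV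
  have hVc := ElemAb.le_centralizer h.hV
  have hne : ⁅Q, A⁆ ≠ ⊥ := by
    intro h0
    rw [commutator_comm, commutator_eq_bot_iff_le_centralizer] at h0
    apply hA1
    rw [← h.hAf, inf_eq_left.2 h0]
  obtain ⟨B, hBA, hBi, hne2⟩ := CoprimeHyper.exists_hyper h.hA h.hQ h.hAQ hne
  refine ⟨B, hBA, hBi, ?_⟩
  have hAB : A ≤ centralizer (B : Set G) :=
    (ElemAb.le_centralizer h.hA).trans (centralizer_le (SetLike.coe_subset_coe.2 hBA))
  have hANB : A ≤ normalizer ((centralizer (B : Set G) : Subgroup G) : Set G) :=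
    Norm.le_normalizer_centralizer (hAB.trans (centralizer_le_normalizer _))
  have hAC : A ≤ normalizer ((Q ⊓ centralizer (B : Set G) : Subgroup G) : Set G) :=
    Norm.le_normalizer_inf h.hAQ hANB
  set Q₁ := ⁅Q ⊓ centralizer (B : Set G), A⁆ with hQ₁
  have hQ₁C : Q₁ ≤ Q ⊓ centralizer (B : Set G) := Coprime.comm_le hAC
  have hQ₁Q : Q₁ ≤ Q := hQ₁C.trans inf_le_left
  have hcop : (Nat.card Q₁).Coprime p := Coprime.coprime_of_le hQ₁Q h.hQ
  have hQ₁A : ⁅Q₁, A⁆ = Q₁ :=
    Coprime.comm_comm hAp (Coprime.coprime_of_le inf_le_left h.hQ) hAC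
  have hQ₁V : Q₁ ≤ normalizer (V : Set G) := hQ₁Q.trans h.hQV
  have hAQ₁ : A ≤ normalizer (Q₁ : Set G) := normalizer_commutator_ge_right _ A
  set V₁ := ⁅V, Q₁⁆ with hV₁
  have hV₁V : V₁ ≤ V := Act.comm_le hQ₁V le_rfl
  have hQ₁V₁ : Q₁ ≤ normalizer (V₁ : Set G) := normalizer_commutator_ge_right V Q₁
  have hAV₁ : A ≤ normalizer (V₁ : Set G) := Norm.le_normalizer_commutator h.hAV hAQ₁
  -- `B` centralizes `V₁`
  have hBV₁ : ⁅V₁, B⁆ = ⊥ := by
    have h1 : ⁅⁅V₁, B⁆, A⁆ = ⊥ := by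
      rw [eq_bot_iff, ← hq]
      exact commutator_mono (commutator_mono hV₁V hBA) le_rfl
    have hQ₁B : Q₁ ≤ normalizer (B : Set G) :=
      (hQ₁C.trans inf_le_right).trans (centralizer_le_normalizer _)
    have h2 : ⁅⁅V₁, B⁆, Q₁⁆ = ⊥ :=
      centralizes_of_comm_eq h1 (Norm.le_normalizer_commutator hQ₁V₁ hQ₁B) hQ₁A.ge
    rw [eq_bot_iff, ← Fix.comm_inf_centralizer hVc hVp hcop hQ₁V]
    exact le_inf (comm_le_of_le_normalizer (hBA.trans hAV₁))
      (commutator_eq_bot_iff_le_centralizer.1 h2)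
  have hlt : ¬ V₁ ≤ centralizer (A : Set G) := by
    intro h1
    have h2 : ⁅V₁, Q₁⁆ = ⊥ :=
      centralizes_of_comm_eq (commutator_eq_bot_iff_le_centralizer.2 h1) hQ₁V₁ hQ₁A.ge
    rw [hV₁, Fix.comm_comm hVc hVp hcop hQ₁V, commutator_comm,
      commutator_eq_bot_iff_le_centralizer] at h2
    apply hne2
    rw [eq_bot_iff, ← h.hQf]
    exact le_inf hQ₁Q h2
  refine lt_of_le_of_ne (inf_le_inf_left _ (centralizer_le (SetLike.coe_subset_coe.2 hBA))) ?_
  intro heq
  apply hlt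
  have h3 : V₁ ≤ V ⊓ centralizer (B : Set G) :=
    le_inf hV₁V (commutator_eq_bot_iff_le_centralizer.1 hBV₁)
  rw [← heq] at h3
  exact h3.trans inf_le_right
where
  comm_le_of_le_normalizer {X Y : Subgroup G} (h : Y ≤ normalizer (X : Set G)) : ⁅X, Y⁆ ≤ X :=
    le_normalizer_iff_commutator_le_left.1 h

/-- The bound for quadratic `A`. -/
theorem val_le_of_quadratic [Finite G] [hp : Fact p.Prime] (n : ℕ) :
    ∀ A : Subgroup G, Nat.card A ≤ n → Setup p V Q A → ⁅⁅V, A⁆, A⁆ = ⊥ →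
      Replace.val V A ≤ Nat.card V := by
  induction n with
  | zero =>
    intro A hA
    have : 0 < Nat.card A := Nat.card_pos
    omega
  | succ n ih =>
    intro A hAn h hq
    by_cases hA1 : A = ⊥
    · rw [hA1]
      unfold Replace.val
      rw [card_bot, one_mul]
      exact card_le_of_le inf_le_left
    · obtain ⟨B, hBA, hBi, hlt⟩ := exists_hyper_lt h hq hA1
      have hcard : Nat.card A = Nat.card B * p := by
        rw [Replace.card_eq_mul_relIndex hBA, hBi]
      have hB : Nat.card B ≤ n := by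
        have : 0 < Nat.card B := Nat.card_pos
        have := hp.out.two_le
        nlinarith
      have h1 := ih B hB (h.mono hBA) (by
        rw [eq_bot_iff, ← hq]
        exact commutator_mono (commutator_mono le_rfl hBA) hBA)
      have h2 := card_ge_of_lt ((ElemAb.isPGroup h.hV).to_le inf_le_left) hlt
      calc Replace.val V A = Nat.card B * (p * Nat.card ↥(V ⊓ centralizer (A : Set G))) := by
            unfold Replace.val; rw [hcard]; ring
        _ ≤ Nat.card B * Nat.card ↥(V ⊓ centralizer (B : Set G)) := Nat.mul_le_mul_left _ h2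
        _ ≤ Nat.card V := h1

/-- The bound for arbitrary `A`. -/
theorem val_le [Finite G] [hp : Fact p.Prime] (h : Setup p V Q A) :
    Replace.val V A ≤ Nat.card V := by
  have hVc := ElemAb.le_centralizer h.hV
  -- choose `B ≤ A` with maximal value
  have hfin : {B : Subgroup G | B ≤ A}.Finite := Set.toFinite _
  obtain ⟨B, hB, hmax⟩ := Set.exists_max_image _ (fun B : Subgroup G => Replace.val V B) hfin
    ⟨A, (le_refl A : A ≤ A)⟩
  have hBA : B ≤ A := hB
  have hab : ⁅B, B⁆ ≤ centralizer (V : Set G) := by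
    rw [commutator_eq_bot_iff_le_centralizer.2 (ElemAb.le_centralizer (ElemAb.of_le h.hA hBA))]
    exact bot_le
  have hg := Replace.good_of_max hVc (hBA.trans h.hAV) hab
    (fun C hC => hmax C (hC.trans hBA)) (le_refl V)
  have h1 : Replace.val V A ≤ Replace.val V B := hmax A (le_refl A : A ≤ A)
  rw [hg.2] at h1
  refine h1.trans ?_
  have hle : B ⊓ centralizer ((⁅V, B⁆ : Subgroup G) : Set G) ≤ A := inf_le_left.trans hBA
  apply val_le_of_quadratic (Q := Q) _ _ le_rfl (h.mono hle)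
  rw [commutator_eq_bot_iff_le_centralizer]
  refine (commutator_mono le_rfl inf_le_left).trans ?_
  exact le_centralizer_iff.1 inf_le_right

end H13.FF1
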