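import Mathlib
import Cfsg.Prelude.Def_PLocal
import Cfsg.Agent.Lib.H13.ElemAb
import Cfsg.Agent.Lib.H13.Omega
import Cfsg.Agent.Lib.H3.RankTwo
import Cfsg.Agent.Lib.H3.ClassTwo
import Cfsg.Agent.Lib.H3.ClassThree
import Cfsg.Agent.Lib.H3.OmegaRankTwo
import Cfsg.Agent.Lib.H14.Regular

set_option autoImplicit false

/-!
Small ranks in `p`-groups, `p` odd.
-/

namespace H13.PRank

open Subgroup
open scoped commutatorElement

variable {R : Type*} [Group R] [Finite R] {p : ℕ} [hp : Fact p.Prime]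

/-- a `p`-group of order dividing `p²` is commutative -/
theorem comm_of_card_le (hR : IsPGroup p R) (h : Nat.card R ≤ p ^ 2) (a b : R) : a * b = b * a := by
  obtain ⟨k, hk⟩ := hR.exists_card_eq
  rw [hk] at h
  have hk2 : k ≤ 2 := (Nat.pow_le_pow_iff_right hp.out.one_lt).1 h
  interval_cases k
  · rw [pow_zero, Nat.card_eq_one_iff_unique] at hk
    have := hk.1
    exact Subsingleton.elim _ _
  · rw [pow_one] at hk
    have := isCyclic_of_prime_card hk
    exact (IsCyclic.commGroup (α := R)).mul_comm a b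
  · exact (IsPGroup.isMulCommutative_of_card_eq_prime_sq hk).is_comm.comm a b

theorem commutator_eq_bot_of_card_le (hR : IsPGroup p R) (h : Nat.card R ≤ p ^ 2) :
    commutator R = ⊥ := by
  rw [_root_.commutator_def, commutator_eq_bot_iff_le_centralizer]
  intro a _
  rw [mem_centralizer_iff]
  intro b _
  exact comm_of_card_le hR h b a

/-- noncyclic normal subgroups contain a normal plane -/
theorem exists_normal_plane (hp2 : p ≠ 2) (hR : IsPGroup p R) (S : Subgroup R) [hSn : S.Normal]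
    (hS : ¬ IsCyclic S) :
    ∃ A : Subgroup R, A ≤ S ∧ A.Normal ∧ Cfsg.IsElementaryAbelian p A ∧ Nat.card A = p ^ 2 := by
  -- `Z = Ω₁(Z(S))`
  set Z : Subgroup R := Omega.omegaZ p S with hZ
  have hZS : Z ≤ S := Omega.omegaZ_le S
  have hZc : Z ≤ centralizer (S : Set R) := Omega.omegaZ_le_centralizer S
  have hZe : Cfsg.IsElementaryAbelian p Z := Omega.isElementaryAbelian_omegaZ S
  have hmemZ : ∀ {z : R}, z ∈ Z ↔ z ∈ S ∧ z ∈ centralizer (S : Set R) ∧ z ^ p = 1 := by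
    intro z
    have hc : S ⊓ centralizer (S : Set R) ≤
        centralizer ((S ⊓ centralizer (S : Set R) : Subgroup R) : Set R) := by
      intro x hx
      rw [mem_centralizer_iff]
      intro y hy
      exact mem_centralizer_iff.1 (mem_inf.1 hx).2 y (mem_inf.1 hy).1
    rw [hZ, Omega.omegaZ, Omega.mem_omegaOne hc, mem_inf, and_assoc]
  have hSc : (centralizer (S : Set R)).Normal := inferInstance
  have hZn : Z.Normal := by
    constructor
    intro z hz g
    obtain ⟨h1, h2, h3⟩ := hmemZ.1 hz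
    refine hmemZ.2 ⟨hSn.conj_mem z h1 g, hSc.conj_mem z h2 g, ?_⟩
    rw [conj_pow, h3]
    group
  by_cases hcard : p ^ 2 ≤ Nat.card Z
  · obtain ⟨k, hk⟩ := (hR.to_subgroup Z).exists_card_eq
    have hk2 : 2 ≤ k := by
      rw [hk] at hcard
      exact (Nat.pow_le_pow_iff_right hp.out.one_lt).1 hcard
    obtain ⟨M, hM, hMZ, hMc⟩ := H3.RankTwo.exists_normal_card hR Z hk hk2
    exact ⟨M, hMZ.trans hZS, hM, ElemAb.of_le hZe hMZ, hMc⟩
  -- now `|Z| ≤ p`
  have hZp : Nat.card Z ≤ p := by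
    obtain ⟨k, hk⟩ := (hR.to_subgroup Z).exists_card_eq
    rw [hk] at hcard ⊢
    have : ¬ 2 ≤ k := fun h => hcard (Nat.pow_le_pow_right hp.out.pos h)
    calc p ^ k ≤ p ^ 1 := Nat.pow_le_pow_right hp.out.pos (by omega)
      _ = p := pow_one p
  obtain ⟨A₀, hA₀n, hA₀e, hA₀c⟩ := H3.RankTwo.exists_normal_rank_two hp2 (hR.to_subgroup S) hS
  set A₁ := A₀.map S.subtype with hA₁
  have hA₁c : Nat.card A₁ = p ^ 2 := by
    rw [hA₁, card_map_of_injective S.subtype_injective, hA₀c]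
  -- `⁅A₀, S⁆ ≤ Z`
  have hcomm : ∀ a ∈ A₀, ∀ s : S, ((⁅a, s⁆ : S) : R) ∈ Z := by
    have h1 : Nat.card (⁅A₀, (⊤ : Subgroup S)⁆ : Subgroup S) ≤ p ^ 1 :=
      H3.OmegaRankTwo.card_commutator_le (hR.to_subgroup S) A₀ (k := 1) (by rw [hA₀c])
    have h2 : ⁅A₀, (⊤ : Subgroup S)⁆ ≤ center S :=
      H3.OmegaRankTwo.le_center_of_card_le (hR.to_subgroup S) _ (by rwa [pow_one] at h1)
    intro a ha s
    have h3 : ⁅a, s⁆ ∈ ⁅A₀, (⊤ : Subgroup S)⁆ := commutator_mem_commutator ha (mem_top s)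
    have h4 : ⁅a, s⁆ ∈ A₀ := commutator_le_left A₀ ⊤ h3
    refine hmemZ.2 ⟨(⁅a, s⁆ : S).2, ?_, ?_⟩
    · rw [mem_centralizer_iff]
      intro x hx
      exact congrArg Subtype.val (mem_center_iff.1 (h2 h3) ⟨x, hx⟩)
    · exact congrArg Subtype.val (hA₀e.2 _ h4)
  -- the group `U`
  let s : Set R := {t | t ∈ S ∧ t ^ p = 1 ∧ ∀ y ∈ S, ⁅t, y⁆ ∈ Z}
  let U : Subgroup R :=
    { carrier := s
      one_mem' := ⟨one_mem _, one_pow p, fun y _ => by rw [commutatorElement_one_left]; exact one_mem _⟩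
      mul_mem' := by
        rintro a b ⟨ha1, ha2, ha3⟩ ⟨hb1, hb2, hb3⟩
        refine ⟨mul_mem ha1 hb1, ?_, ?_⟩
        · have hz := hb3 a ha1
          have hzc := hZc hz
          have c1 : Commute ⁅b, a⁆ a := (mem_centralizer_iff.1 hzc a ha1).symm
          have c2 : Commute ⁅b, a⁆ b := (mem_centralizer_iff.1 hzc b hb1).symm
          rw [H3.ClassTwo.mul_pow_eq c1 c2, ha2, hb2, one_mul, one_mul]
          obtain ⟨k, hk⟩ := H3.ClassTwo.prime_dvd_choose_two hp.out hp2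
          rw [hk, pow_mul, (hmemZ.1 hz).2.2, one_pow]
        · intro y hy
          have h1 : ⁅a * b, y⁆ = a * ⁅b, y⁆ * a⁻¹ * ⁅a, y⁆ := by
            simp only [commutatorElement_def]
            group
          rw [h1]
          exact mul_mem (hZn.conj_mem _ (hb3 y hy) a) (ha3 y hy)
      inv_mem' := by
        rintro a ⟨ha1, ha2, ha3⟩
        refine ⟨inv_mem ha1, by rw [inv_pow, ha2, inv_one], ?_⟩
        intro y hy
        have h1 : ⁅a⁻¹, y⁆ = a⁻¹ * ⁅a, y⁆⁻¹ * (a⁻¹)⁻¹ := by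
          simp only [commutatorElement_def]
          group
        rw [h1]
        exact hZn.conj_mem _ (inv_mem (ha3 y hy)) _ }
  have hU : ∀ {t : R}, t ∈ U ↔ t ∈ S ∧ t ^ p = 1 ∧ ∀ y ∈ S, ⁅t, y⁆ ∈ Z := Iff.rfl
  have hUn : U.Normal := by
    constructor
    intro t ht g
    obtain ⟨h1, h2, h3⟩ := hU.1 ht
    refine hU.2 ⟨hSn.conj_mem t h1 g, ?_, ?_⟩
    · rw [conj_pow, h2]
      group
    · intro y hy
      have h4 : ⁅g * t * g⁻¹, y⁆ = g * ⁅t, g⁻¹ * y * g⁆ * g⁻¹ := by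
        simp only [commutatorElement_def]
        group
      rw [h4]
      refine hZn.conj_mem _ (h3 _ ?_) g
      have := hSn.conj_mem y hy g⁻¹
      rwa [inv_inv] at this
  have hA₁U : A₁ ≤ U := by
    rintro _ ⟨a, ha, rfl⟩
    refine hU.2 ⟨a.2, congrArg Subtype.val (hA₀e.2 a ha), ?_⟩
    intro y hy
    exact hcomm a ha ⟨y, hy⟩
  obtain ⟨k, hk⟩ := (hR.to_subgroup U).exists_card_eq
  have hk2 : 2 ≤ k := by
    have h1 := card_le_of_le hA₁U
    rw [hA₁c, hk] at h1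
    exact (Nat.pow_le_pow_iff_right hp.out.one_lt).1 h1
  obtain ⟨M, hM, hMU, hMc⟩ := H3.RankTwo.exists_normal_card hR U hk hk2
  refine ⟨M, fun x hx => (hU.1 (hMU hx)).1, hM, ?_, hMc⟩
  rw [ElemAb.iff_mem]
  refine ⟨?_, fun a ha => (hU.1 (hMU ha)).2.1⟩
  intro a ha b hb
  exact congrArg Subtype.val (comm_of_card_le (hR.to_subgroup M) hMc.le ⟨a, ha⟩ ⟨b, hb⟩)

end H13.PRank
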