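import Mathlib
import Cfsg.Prelude.Def_PLocal
import Cfsg.Agent.Lib.H13.ElemAb
import Cfsg.Agent.Lib.H13.Omega
import Cfsg.Agent.Lib.H13.PRank
import Cfsg.Agent.Lib.H3.RankTwo
import Cfsg.Agent.Lib.H3.PBasic
import Cfsg.Agent.Lib.H3.ClassTwo
import Cfsg.Agent.Lib.H3.ClassThree
import Cfsg.Agent.Lib.H3.OmegaRankTwo

set_option autoImplicit false

/-!
`p > 3`: the bound `|Ω₁(R)| ≤ p²` passes to quotients.
-/

namespace H13.OmegaQ

open Subgroup
open scoped commutatorElement

universe u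

variable {p : ℕ} [hp : Fact p.Prime]

theorem mem_top_omega {R : Type*} [Group R] {x : R} (h : x ^ p = 1) :
    x ∈ Cfsg.omegaOne p (⊤ : Subgroup R) := Omega.mem_omegaOne_of (mem_top x) h

theorem card_le_of_surj {A B : Type*} [Group A] [Finite A] [Group B] (f : A →* B) (h : Function.Surjective f) :
    Nat.card B ≤ Nat.card A := Nat.card_le_card_of_surjective f h

/-- no subgroup of exponent `p` and order `p³` upstairs modulo a central subgroup of order `p` -/
theorem no_cube {R : Type*} [Group R] [Finite R] (hp3 : 3 < p) (hR : IsPGroup p R)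
    (hO : Nat.card (Cfsg.omegaOne p (⊤ : Subgroup R)) ≤ p ^ 2) (T : Subgroup R) [T.Normal]
    (hTc : T ≤ center R) (hT : Nat.card T = p) (E : Subgroup (R ⧸ T)) (hE : ∀ x ∈ E, x ^ p = 1) :
    Nat.card E ≠ p ^ 3 := by
  intro hEc
  have hp2 : p ≠ 2 := by omega
  have hTp : ∀ t ∈ T, t ^ p = 1 := by
    intro t ht
    have h1 : (⟨t, ht⟩ : T) ^ Nat.card T = 1 := pow_card_eq_one'
    rw [hT] at h1
    exact congrArg Subtype.val h1
  set F : Subgroup R := E.comap (QuotientGroup.mk' T) with hF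
  have hTF : T ≤ F := by
    intro t ht
    rw [hF, mem_comap]
    have : QuotientGroup.mk' T t = 1 := (QuotientGroup.eq_one_iff t).2 ht
    rw [this]
    exact one_mem _
  have hmapF : F.map (QuotientGroup.mk' T) = E :=
    map_comap_eq_self_of_surjective (QuotientGroup.mk'_surjective T) E
  have hFc : Nat.card F = p ^ 4 := by
    have h1 := H3.PBasic.card_comap_mk' T E
    rw [hEc, hT] at h1
    rw [hF, h1]
    ring
  -- powers
  have hpow : ∀ x ∈ F, x ^ p ∈ T := by
    intro x hx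
    have h1 := hE _ (mem_comap.1 hx)
    rw [← map_pow] at h1
    exact (QuotientGroup.eq_one_iff _).1 h1
  -- class two
  have hcl : ∀ x ∈ F, ∀ y ∈ F, ∀ z ∈ F, ⁅⁅x, y⁆, z⁆ ∈ T := by
    have hEp : IsPGroup p E := (hR.to_quotient T).to_subgroup E
    obtain ⟨Z, hZn, hZc⟩ : ∃ Z : Subgroup E, Z.Normal ∧ Nat.card Z = p := by
      obtain ⟨Z, hZn, -, hZc⟩ := H3.RankTwo.exists_normal_card hEp ⊤ (k := 3) (j := 1)
        (by rw [card_top, hEc]) (by omega)
      exact ⟨Z, hZn, by rw [hZc, pow_one]⟩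
    have hZcen : Z ≤ center E := H3.OmegaRankTwo.le_center_of_card_le hEp Z hZc.le
    have hQc : Nat.card (E ⧸ Z) = p ^ 2 := by
      have h1 := Z.card_eq_card_quotient_mul_card_subgroup
      rw [hEc, hZc] at h1
      have h2 : p ^ 3 = p ^ 2 * p := by ring
      rw [h2] at h1
      exact (Nat.eq_of_mul_eq_mul_right hp.out.pos h1).symm
    have hcE : ∀ a b : E, ⁅a, b⁆ ∈ Z := by
      intro a b
      rw [← QuotientGroup.eq_one_iff, ← QuotientGroup.mk'_apply, map_commutatorElement,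
        commutatorElement_eq_one_iff_mul_comm]
      exact PRank.comm_of_card_le (hEp.to_quotient Z) hQc.le _ _
    intro x hx y hy z hz
    rw [← QuotientGroup.eq_one_iff, ← QuotientGroup.mk'_apply, map_commutatorElement,
      map_commutatorElement, commutatorElement_eq_one_iff_mul_comm]
    have h1 := mem_center_iff.1 (hZcen (hcE ⟨_, mem_comap.1 hx⟩ ⟨_, mem_comap.1 hy⟩)) ⟨_, mem_comap.1 hz⟩
    exact (congrArg Subtype.val h1).symm
  have hcen : ∀ t ∈ T, ∀ g : R, g * t = t * g := fun t ht g => (mem_center_iff.1 (hTc ht) g)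
  have hcen' : ∀ t : F, (t : R) ∈ T → t ∈ center F := by
    intro t ht
    rw [mem_center_iff]
    intro g
    exact Subtype.ext (hcen _ ht _)
  have hTp' : ∀ t : F, (t : R) ∈ T → t ^ p = 1 := fun t ht => Subtype.ext (hTp _ ht)
  have hcp : ∀ x y : F, ⁅y, x⁆ ^ p = 1 := by
    intro x y
    have he : ((⁅⁅y, x⁆, y⁆ : F) : R) ∈ T := hcl _ y.2 _ x.2 _ y.2
    have hf : ((⁅⁅y, x⁆, x⁆ : F) : R) ∈ T := hcl _ y.2 _ x.2 _ x.2
    have h1 := H3.ClassThree.pow_mul_eq x y (hcen' _ he) (hcen' _ hf) p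
    obtain ⟨k, hk⟩ := H3.ClassThree.prime_dvd_choose_two_succ hp.out hp2
    rw [hk, pow_mul, hTp' _ he, one_pow, mul_one, hTp' _ hf, mul_one,
      mem_center_iff.1 (hcen' _ (hpow _ y.2)) x |>.symm] at h1
    have h2 : x * y ^ p * 1 = x * y ^ p * ⁅y, x⁆ ^ p := by
      rw [mul_one, mul_assoc x (y ^ p) (⁅y, x⁆ ^ p)]
      exact h1
    exact (mul_left_cancel h2).symm
  have hhom : ∀ x y : F, (x * y) ^ p = x ^ p * y ^ p := by
    intro x y
    have he : ((⁅⁅y, x⁆, y⁆ : F) : R) ∈ T := hcl _ y.2 _ x.2 _ y.2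
    have hf : ((⁅⁅y, x⁆, x⁆ : F) : R) ∈ T := hcl _ y.2 _ x.2 _ x.2
    exact H3.ClassThree.mul_pow_prime hp.out hp3 x y (hcen' _ he) (hcen' _ hf) (hcp x y)
      (hTp' _ he) (hTp' _ hf)
  let φ : F →* F :=
    { toFun := fun x => x ^ p
      map_one' := one_pow p
      map_mul' := hhom }
  have hφ : φ.range ≤ T.subgroupOf F := by
    rintro _ ⟨x, rfl⟩
    exact hpow _ x.2
  have hφc : Nat.card φ.range ≤ p := by
    have h1 := card_le_of_le hφ
    have h2 : Nat.card (T.subgroupOf F) = Nat.card T := Nat.card_congr (subgroupOfEquivOfLe hTF).toEquiv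
    rwa [h2, hT] at h1
  have hker : Nat.card φ.ker * Nat.card φ.range = p ^ 4 := by
    rw [← hFc, ← card_mul_index φ.ker, index_ker]
  have hkO : Nat.card φ.ker ≤ p ^ 2 := by
    have h1 : φ.ker.map F.subtype ≤ Cfsg.omegaOne p (⊤ : Subgroup R) := by
      rintro _ ⟨x, hx, rfl⟩
      exact mem_top_omega (congrArg Subtype.val (MonoidHom.mem_ker.1 hx))
    have h2 := card_le_of_le h1
    rw [card_map_of_injective F.subtype_injective] at h2
    exact h2.trans hO
  have h3 : p ^ 4 ≤ p ^ 2 * p := by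
    rw [← hker]
    exact Nat.mul_le_mul hkO hφc
  have h4 : p ^ 2 * p = p ^ 3 := by ring
  rw [h4] at h3
  have h5 := (Nat.pow_le_pow_iff_right hp.out.one_lt).1 h3
  omega

/-- the bound for a quotient by a central subgroup of order `p` -/
theorem card_le_quot {R : Type*} [Group R] [Finite R] (hp3 : 3 < p) (hR : IsPGroup p R)
    (hO : Nat.card (Cfsg.omegaOne p (⊤ : Subgroup R)) ≤ p ^ 2) (T : Subgroup R) [T.Normal]
    (hTc : T ≤ center R) (hT : Nat.card T = p) :
    Nat.card (Cfsg.omegaOne p (⊤ : Subgroup (R ⧸ T))) ≤ p ^ 2 := by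
  have hQ : IsPGroup p (R ⧸ T) := hR.to_quotient T
  have hexp : ∀ E : Subgroup (R ⧸ T), (∀ x ∈ E, x ^ p = 1) → Nat.card E ≤ p ^ 2 := by
    intro E hE
    by_contra hc
    obtain ⟨k, hk⟩ := (hQ.to_subgroup E).exists_card_eq
    rw [hk] at hc
    have hk3 : 3 ≤ k := by
      by_contra h
      exact hc (Nat.pow_le_pow_right hp.out.pos (by omega))
    obtain ⟨E', hE'⟩ := Sylow.exists_subgroup_card_pow_prime (G := E) p (n := 3)
      (by rw [hk]; exact pow_dvd_pow p hk3)
    refine no_cube hp3 hR hO T hTc hT (E'.map E.subtype) ?_ ?_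
    · rintro _ ⟨x, -, rfl⟩
      exact hE _ x.2
    · rw [card_map_of_injective E.subtype_injective, hE']
  refine hexp _ ?_
  intro x hx
  refine H3.OmegaRankTwo.omega_one hp3 hQ (fun E hE => hexp E fun x hx => ?_) ?_
  · exact hE.2 x hx
  · have h1 : Cfsg.omegaOne p (⊤ : Subgroup (R ⧸ T)) = closure {x : R ⧸ T | x ^ p = 1} := by
      rw [Cfsg.omegaOne]
      congr 1
      ext x
      simp
    rwa [h1] at hx

theorem card_omega_equiv {R K : Type*} [Group R] [Group K] (e : R ≃* K) :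
    Nat.card (Cfsg.omegaOne p (⊤ : Subgroup K)) = Nat.card (Cfsg.omegaOne p (⊤ : Subgroup R)) := by
  have h1 := Omega.map_omegaOne_of_injective (p := p) (f := e.toMonoidHom) e.injective ⊤
  rw [← MonoidHom.range_eq_map, MonoidHom.range_eq_top.2 e.surjective] at h1
  rw [← h1, card_map_of_injective e.injective]

theorem card_le_all (hp3 : 3 < p) : ∀ (n : ℕ) (R : Type u) [Group R] [Finite R], IsPGroup p R →
    Nat.card R ≤ n → Nat.card (Cfsg.omegaOne p (⊤ : Subgroup R)) ≤ p ^ 2 →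
    ∀ (T : Subgroup R) [T.Normal], Nat.card (Cfsg.omegaOne p (⊤ : Subgroup (R ⧸ T))) ≤ p ^ 2 := by
  intro n
  induction n with
  | zero =>
    intro R _ _ _ hn
    exact absurd (Nat.card_pos (α := R)) (by omega)
  | succ n ih =>
    intro R _ _ hR hn hO T _
    by_cases hT : T = ⊥
    · subst hT
      rw [card_omega_equiv (p := p) (QuotientGroup.quotientBot (G := R)).symm]
      exact hO
    · obtain ⟨k, hk⟩ := (hR.to_subgroup T).exists_card_eq
      have hk1 : 1 ≤ k := by
        by_contra h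
        have : k = 0 := by omega
        subst this
        rw [pow_zero] at hk
        exact hT (card_eq_one.1 hk)
      obtain ⟨T₀, hT₀n, hT₀T, hT₀c⟩ := H3.RankTwo.exists_normal_card hR T hk hk1
      rw [pow_one] at hT₀c
      have hcen := H3.OmegaRankTwo.le_center_of_card_le hR T₀ hT₀c.le
      have h1 := card_le_quot hp3 hR hO T₀ hcen hT₀c
      have hlt : Nat.card (R ⧸ T₀) ≤ n := by
        have h2 := T₀.card_eq_card_quotient_mul_card_subgroup
        rw [hT₀c] at h2
        have h3 : Nat.card (R ⧸ T₀) * 2 ≤ Nat.card (R ⧸ T₀) * p :=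
          Nat.mul_le_mul_left _ hp.out.two_le
        have h4 : 0 < Nat.card (R ⧸ T₀) := Nat.card_pos
        omega
      have h2 := ih (R ⧸ T₀) (hR.to_quotient T₀) hlt h1 (T.map (QuotientGroup.mk' T₀))
      rwa [card_omega_equiv (p := p) (QuotientGroup.quotientQuotientEquivQuotient T₀ T hT₀T)] 

end H13.OmegaQ
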