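import Mathlib
import Cfsg.Prelude.Def_PLocal
import Cfsg.Prelude.Def_OddOrderLocal
import Cfsg.Agent.Lib.H13.OmegaQ
import Cfsg.Agent.Lib.H14.Regular
import Cfsg.Agent.Lib.H76.Metacyclic

set_option autoImplicit false

/-!
Huppert's criterion: `p` odd, `|R : ℧₁(R)| ≤ p²` implies `R` metacyclic.
-/

namespace H13.Huppert

open Subgroup
open scoped commutatorElement

universe u

variable {p : ℕ} [hp : Fact p.Prime]

theorem le_relIndex {S : Type*} [Group S] [Finite S] (hS : IsPGroup p S) {H K : Subgroup S} (h : H < K) :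
    p ≤ H.relIndex K := by
  obtain ⟨k, hk⟩ := hS.exists_card_eq
  have h1 : H.relIndex K ∣ p ^ k := by
    rw [← hk]
    exact (relIndex_dvd_card H K).trans (card_subgroup_dvd_card K)
  obtain ⟨j, -, hj⟩ := (Nat.dvd_prime_pow hp.out).1 h1
  have h2 : H.relIndex K ≠ 1 := by
    rw [Ne, relIndex_eq_one]
    exact fun h3 => h.not_ge h3
  rw [hj] at h2 ⊢
  have h3 : j ≠ 0 := by
    rintro rfl
    exact h2 (pow_zero p)
  calc p = p ^ 1 := (pow_one p).symm
    _ ≤ p ^ j := Nat.pow_le_pow_right hp.out.pos (by omega)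

/-- generating pair from an element outside a subgroup `Q` of index at most `p²` inside the Frattini subgroup. -/
theorem exists_generating_pair {S : Type*} [Group S] [Finite S] (hS : IsPGroup p S) (Q : Subgroup S)
    (hQ : Q ≤ frattini S) (hi : Q.index ≤ p ^ 2) (x : S) (hx : x ∉ Q) :
    ∃ y : S, zpowers x ⊔ zpowers y = ⊤ := by
  have hK1 : Q < zpowers x ⊔ Q := by
    refine lt_of_le_of_ne le_sup_right ?_
    intro h
    apply hx
    rw [h]
    exact mem_sup_left (mem_zpowers x)
  by_cases h1 : zpowers x ⊔ Q = ⊤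
  · refine ⟨1, ?_⟩
    rw [zpowers_one_eq_bot, sup_bot_eq]
    exact frattini_nongenerating (le_antisymm le_top (h1 ▸ sup_le_sup_left hQ _))
  · obtain ⟨y, hy⟩ : ∃ y : S, y ∉ zpowers x ⊔ Q := by
      by_contra h
      push Not at h
      exact h1 ((Subgroup.eq_top_iff' _).2 h)
    refine ⟨y, ?_⟩
    have hK2 : zpowers x ⊔ Q < zpowers x ⊔ zpowers y ⊔ Q := by
      refine lt_of_le_of_ne (sup_le_sup_right le_sup_left _) ?_
      intro h
      apply hy
      rw [h]
      exact mem_sup_left (mem_sup_right (mem_zpowers y))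
    have h2 := relIndex_mul_index hK1.le
    have h3 := relIndex_mul_index hK2.le
    have h4 := le_relIndex hS hK1
    have h5 := le_relIndex hS hK2
    have h6 : (zpowers x ⊔ zpowers y ⊔ Q).index ≠ 0 := Subgroup.index_ne_zero_of_finite
    have h7 : zpowers x ⊔ zpowers y ⊔ Q = ⊤ := by
      rw [← Subgroup.index_eq_one]
      by_contra h8
      have h9 : p * (p * 2) ≤ Q.relIndex (zpowers x ⊔ Q) *
        ((zpowers x ⊔ Q).relIndex (zpowers x ⊔ zpowers y ⊔ Q) * (zpowers x ⊔ zpowers y ⊔ Q).index) :=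
        Nat.mul_le_mul h4 (Nat.mul_le_mul h5 (by omega))
      rw [h3, h2] at h9
      have h10 : p * (p * 2) ≤ p ^ 2 := h9.trans hi
      have h11 : 0 < p * p := Nat.mul_pos hp.out.pos hp.out.pos
      nlinarith
    exact frattini_nongenerating (le_antisymm le_top (h7 ▸ sup_le_sup_left hQ _))

theorem powerClosure_le_frattini {S : Type*} [Group S] [Finite S] (hS : IsPGroup p S) :
    Cfsg.powerClosure p 1 (⊤ : Subgroup S) ≤ frattini S := by
  rw [Cfsg.powerClosure, closure_le]
  rintro x ⟨y, -, rfl⟩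
  rw [pow_one]
  exact H76.Metacyclic.pow_mem_frattini hS y

theorem powerClosure_le_of {S : Type*} [Group S] {H N : Subgroup S} (h : ∀ x ∈ H, x ^ p ∈ N) :
    Cfsg.powerClosure p 1 H ≤ N := by
  rw [Cfsg.powerClosure, closure_le]
  rintro x ⟨y, hy, rfl⟩
  rw [pow_one]
  exact h y hy

theorem commutator_le_powerClosure {S : Type*} [Group S] [Finite S] (hS : IsPGroup p S)
    (hi : (Cfsg.powerClosure p 1 (⊤ : Subgroup S)).index ≤ p ^ 2) :
    commutator S ≤ Cfsg.powerClosure p 1 (⊤ : Subgroup S) := by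
  set P := Cfsg.powerClosure p 1 (⊤ : Subgroup S) with hP
  have hPn : P.Normal := inferInstance
  have h1 := PRank.commutator_eq_bot_of_card_le (hS.to_quotient P) hi
  have h2 : (commutator S).map (QuotientGroup.mk' P) = ⊥ := by
    rw [_root_.commutator_def, map_commutator, ← MonoidHom.range_eq_map, QuotientGroup.range_mk',
      ← _root_.commutator_def, h1]
  rw [Subgroup.map_eq_bot_iff, QuotientGroup.ker_mk'] at h2
  exact h2

/-- the case of class two with `R'` of exponent `p` -/
theorem case_bot {S : Type*} [Group S] [Finite S] (hp2 : p ≠ 2) (hS : IsPGroup p S)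
    (hi : (Cfsg.powerClosure p 1 (⊤ : Subgroup S)).index ≤ p ^ 2)
    (h1 : ⁅commutator S, (⊤ : Subgroup S)⁆ = ⊥) (h2 : ∀ x ∈ commutator S, x ^ p = 1) :
    Cfsg.IsMetacyclic S := by
  have hZ := H3.ClassTwo.commutator_le_center_of_class_two h1
  have hcm : ∀ a b : S, ⁅a, b⁆ ∈ commutator S := fun a b =>
    commutator_mem_commutator (mem_top a) (mem_top b)
  have hmul : ∀ a b : S, (a * b) ^ p = a ^ p * b ^ p := fun a b =>
    H3.ClassTwo.mul_pow_prime hZ hp.out hp2 a b (h2 _ (hcm _ _))
  let φ : S →* S :=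
    { toFun := fun x => x ^ p
      map_one' := one_pow p
      map_mul' := hmul }
  have hP : Cfsg.powerClosure p 1 (⊤ : Subgroup S) = φ.range := by
    apply le_antisymm
    · exact powerClosure_le_of fun x _ => ⟨x, rfl⟩
    · rintro _ ⟨x, rfl⟩
      exact H14.Regular.pow_mem_powerClosure_one (mem_top x)
  have hfr := powerClosure_le_frattini hS
  by_cases hPt : Cfsg.powerClosure p 1 (⊤ : Subgroup S) = ⊤
  · -- trivial group
    have h3 : frattini S = ⊤ := top_le_iff.1 (hPt ▸ hfr)
    have h4 : (⊥ : Subgroup S) = ⊤ := frattini_nongenerating (by rw [h3, sup_top_eq])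
    have : Subsingleton S := by
      have := Subgroup.subsingleton_iff.1 (subsingleton_of_bot_eq_top h4)
      exact this
    refine ⟨⊥, inferInstance, inferInstance, inferInstance⟩
  · obtain ⟨x₀, hx₀⟩ : ∃ x : S, x ∉ Cfsg.powerClosure p 1 (⊤ : Subgroup S) := by
      by_contra h
      push Not at h
      exact hPt ((Subgroup.eq_top_iff' _).2 h)
    obtain ⟨y₀, hy₀⟩ := exists_generating_pair hS _ hfr hi x₀ hx₀
    set z := ⁅x₀, y₀⁆ with hz
    have hzc : z ∈ center S := hZ (hcm _ _)
    have hzn : (zpowers z).Normal := H76.Metacyclic.normal_zpowers_of_central z (mem_center_iff.1 hzc)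
    have hcl : closure ({x₀, y₀} : Set S) = ⊤ := by
      rw [← hy₀, zpowers_eq_closure, zpowers_eq_closure, ← Subgroup.closure_union]
      rfl
    have hcz : commutator S ≤ zpowers z := H14.Regular.commutator_le_of_pair hcl _ (mem_zpowers z)
    by_cases hz1 : z = 1
    · refine H76.Metacyclic.metacyclic_of_pair x₀ y₀ hy₀ (hcz.trans ?_)
      rw [hz1, zpowers_one_eq_bot]
      exact bot_le
    · obtain ⟨m, hm⟩ := hS.exists_card_eq
      classical
      let Pr : ℕ → Prop := fun k => ∃ h : S, h ^ p ^ k = z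
      have hbd : ∀ k, Pr k → k ≤ m := by
        rintro k ⟨h, hh⟩
        by_contra hk
        apply hz1
        rw [← hh]
        have h3 : p ^ m ∣ p ^ k := pow_dvd_pow p (by omega)
        obtain ⟨c, hc⟩ := h3
        rw [hc, pow_mul, ← hm, pow_card_eq_one', one_pow]
      have h0 : Pr 0 := ⟨z, by rw [pow_zero, pow_one]⟩
      obtain ⟨h, hh⟩ : Pr (Nat.findGreatest Pr m) := Nat.findGreatest_spec (Nat.zero_le m) h0
      have hhP : h ∉ Cfsg.powerClosure p 1 (⊤ : Subgroup S) := by
        rw [hP]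
        rintro ⟨g, hg⟩
        have h3 : Pr (Nat.findGreatest Pr m + 1) := by
          refine ⟨g, ?_⟩
          rw [pow_succ', pow_mul]
          change (φ g) ^ _ = z
          rw [hg, hh]
        have h4 := Nat.le_findGreatest (hbd _ h3) h3
        omega
      obtain ⟨y, hy⟩ := exists_generating_pair hS _ hfr hi h hhP
      refine H76.Metacyclic.metacyclic_of_pair h y hy (hcz.trans ?_)
      rw [zpowers_le, ← hh]
      exact pow_mem (mem_zpowers h) _

/-- lifting the cyclic normal subgroup through a central subgroup of order `p` -/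
theorem case_lift {S : Type*} [Group S] [Finite S] (hS : IsPGroup p S)
    (T : Subgroup S) [T.Normal] (hTc : T ≤ center S) (hT : Nat.card T = p)
    (hTM : T ≤ Cfsg.powerClosure p 1 (commutator S) ⊔ ⁅commutator S, (⊤ : Subgroup S)⁆)
    (hm : Cfsg.IsMetacyclic (S ⧸ T)) : Cfsg.IsMetacyclic S := by
  obtain ⟨N', hN'n, hN'c, hQc⟩ := hm
  have hTp : ∀ t ∈ T, t ^ p = 1 := by
    intro t ht
    have h1 : (⟨t, ht⟩ : T) ^ Nat.card T = 1 := pow_card_eq_one'
    rw [hT] at h1
    exact congrArg Subtype.val h1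
  have hcen : ∀ t ∈ T, ∀ g : S, g * t = t * g := fun t ht g => (mem_center_iff.1 (hTc ht) g)
  set N : Subgroup S := N'.comap (QuotientGroup.mk' T) with hN
  have hNn : N.Normal := inferInstance
  obtain ⟨⟨a', ha'N⟩, ha'⟩ := hN'c.exists_generator
  obtain ⟨a, rfl⟩ := QuotientGroup.mk'_surjective T a'
  have haN : a ∈ N := ha'N
  have hgenN : ∀ n ∈ N, ∃ (i : ℤ) (t : S), t ∈ T ∧ n = a ^ i * t := by
    intro n hn
    obtain ⟨i, hi⟩ := mem_zpowers_iff.1 (ha' ⟨_, mem_comap.1 hn⟩)
    have hi' : (QuotientGroup.mk' T a) ^ i = QuotientGroup.mk' T n := congrArg Subtype.val hi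
    refine ⟨i, a ^ (-i) * n, ?_, by group⟩
    rw [← QuotientGroup.eq_one_iff, ← QuotientGroup.mk'_apply, map_mul, map_zpow, ← hi', ← zpow_add]
    simp
  obtain ⟨y'', hy''⟩ := hQc.exists_generator
  obtain ⟨y', rfl⟩ := QuotientGroup.mk'_surjective N' y''
  obtain ⟨y, rfl⟩ := QuotientGroup.mk'_surjective T y'
  have hgen : ∀ g : S, ∃ i : ℤ, y ^ (-i) * g ∈ N := by
    intro g
    obtain ⟨i, hi⟩ := mem_zpowers_iff.1 (hy'' (QuotientGroup.mk' N' (QuotientGroup.mk' T g)))
    refine ⟨i, ?_⟩
    rw [hN, mem_comap, ← QuotientGroup.eq_one_iff, ← QuotientGroup.mk'_apply, map_mul, map_mul, ← hi,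
      map_zpow, map_zpow, ← zpow_add]
    simp
  -- powers
  have hpw : ∀ n ∈ N, n ^ p ∈ zpowers (a ^ p) := by
    intro n hn
    obtain ⟨i, t, ht, rfl⟩ := hgenN n hn
    have hc : Commute (a ^ i) t := hcen t ht _
    have h1 : (a ^ i) ^ p = (a ^ p) ^ i := by
      rw [← zpow_natCast (a ^ i), ← zpow_mul, mul_comm i, zpow_mul, zpow_natCast]
    rw [hc.mul_pow, hTp t ht, mul_one, h1]
    exact zpow_mem (mem_zpowers _) _
  have hAn : (zpowers (a ^ p)).Normal := by
    constructor
    intro x hx g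
    obtain ⟨i, rfl⟩ := mem_zpowers_iff.1 hx
    have h1 : g * (a ^ p) ^ i * g⁻¹ = ((g * a * g⁻¹) ^ p) ^ i := by
      rw [conj_pow, conj_zpow]
    rw [h1]
    exact zpow_mem (hpw _ (hNn.conj_mem a haN g)) i
  set N₁ : Subgroup S := zpowers (a ^ p) ⊔ T with hN₁
  have hN₁n : N₁.Normal := sup_normal _ _
  -- the derived subgroup is in `N₁`
  have hcomm : commutator S ≤ N₁ := by
    set W : Subgroup (S ⧸ N₁) := N.map (QuotientGroup.mk' N₁) with hW
    have hWn : W.Normal := hNn.map _ (QuotientGroup.mk'_surjective N₁)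
    have hWz : W ≤ zpowers (QuotientGroup.mk' N₁ a) := by
      rintro _ ⟨n, hn, rfl⟩
      obtain ⟨i, t, ht, rfl⟩ := hgenN n hn
      rw [map_mul, map_zpow]
      have h1 : QuotientGroup.mk' N₁ t = 1 := (QuotientGroup.eq_one_iff t).2 (mem_sup_right ht)
      rw [h1, mul_one]
      exact zpow_mem (mem_zpowers _) i
    have hWc : Nat.card W ≤ p := by
      refine (card_le_of_le hWz).trans ?_
      rw [Nat.card_zpowers]
      refine orderOf_le_of_pow_eq_one hp.out.pos ?_
      rw [← map_pow]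
      exact (QuotientGroup.eq_one_iff _).2 (mem_sup_left (mem_zpowers _))
    have hWcen := H3.OmegaRankTwo.le_center_of_card_le (hS.to_quotient N₁) W hWc
    have htop : W ⊔ zpowers (QuotientGroup.mk' N₁ y) = ⊤ := by
      rw [eq_top_iff]
      rintro g' -
      obtain ⟨g, rfl⟩ := QuotientGroup.mk'_surjective N₁ g'
      obtain ⟨i, hi⟩ := hgen g
      have h1 : g = y ^ i * (y ^ (-i) * g) := by group
      rw [h1, map_mul, map_zpow]
      exact mul_mem (mem_sup_right (zpow_mem (mem_zpowers _) i)) (mem_sup_left (mem_map_of_mem _ hi))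
    have h1 := H3.OmegaRankTwo.commutator_le_of_cyclic W _ htop
    have h2 : ⁅W, (⊤ : Subgroup (S ⧸ N₁))⁆ = ⊥ := by
      rw [commutator_eq_bot_iff_le_centralizer, coe_top, centralizer_univ]
      exact hWcen
    rw [h2] at h1
    have h3 : (commutator S).map (QuotientGroup.mk' N₁) = ⊥ := by
      rw [_root_.commutator_def, map_commutator, ← MonoidHom.range_eq_map, QuotientGroup.range_mk',
        ← _root_.commutator_def]
      exact le_bot_iff.1 h1
    rwa [Subgroup.map_eq_bot_iff, QuotientGroup.ker_mk'] at h3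
  have hN₁N : N₁ ≤ N := by
    refine sup_le ?_ ?_
    · rw [zpowers_le]
      exact pow_mem haN p
    · intro t ht
      rw [hN, mem_comap]
      have : QuotientGroup.mk' T t = 1 := (QuotientGroup.eq_one_iff t).2 ht
      rw [this]
      exact one_mem _
  have hTa : T ≤ zpowers a := by
    have hpa : zpowers (a ^ p) ≤ zpowers a := by
      rw [zpowers_le]
      exact pow_mem (mem_zpowers a) p
    refine (hTM.trans ?_).trans hpa
    refine sup_le ?_ ?_
    · refine powerClosure_le_of fun x hx => hpw x (hN₁N (hcomm hx))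
    · rw [commutator_le]
      intro x hx g _
      obtain ⟨u, hu, t, ht, rfl⟩ := mem_sup_of_normal_left.1 (hcomm hx)
      have h1 : ⁅u * t, g⁆ = u * (g * u⁻¹ * g⁻¹) := by
        have h2 : g * t⁻¹ = t⁻¹ * g := hcen t⁻¹ (inv_mem ht) g
        rw [commutatorElement_def, mul_inv_rev]
        calc u * t * g * (t⁻¹ * u⁻¹) * g⁻¹ = u * t * (g * t⁻¹) * u⁻¹ * g⁻¹ := by group
          _ = u * (g * u⁻¹ * g⁻¹) := by rw [h2]; group
      rw [h1]
      exact mul_mem hu (hAn.conj_mem _ (inv_mem hu) g)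
  have hNa : N = zpowers a := by
    apply le_antisymm
    · intro n hn
      obtain ⟨i, t, ht, rfl⟩ := hgenN n hn
      exact mul_mem (zpow_mem (mem_zpowers a) i) (hTa ht)
    · rw [zpowers_le]
      exact haN
  refine ⟨N, hNn, by rw [hNa]; infer_instance, ?_⟩
  refine ⟨QuotientGroup.mk' N y, fun q => ?_⟩
  obtain ⟨g, rfl⟩ := QuotientGroup.mk'_surjective N q
  obtain ⟨i, hi⟩ := hgen g
  refine mem_zpowers_iff.2 ⟨i, ?_⟩
  have h1 : QuotientGroup.mk' N (y ^ (-i) * g) = 1 := (QuotientGroup.eq_one_iff _).2 hi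
  rw [map_mul, map_zpow, zpow_neg] at h1
  exact inv_mul_eq_one.1 h1

theorem metacyclic (hp2 : p ≠ 2) : ∀ (n : ℕ) (S : Type u) [Group S] [Finite S], IsPGroup p S →
    Nat.card S ≤ n → (Cfsg.powerClosure p 1 (⊤ : Subgroup S)).index ≤ p ^ 2 → Cfsg.IsMetacyclic S := by
  intro n
  induction n with
  | zero =>
    intro S _ _ _ hn
    exact absurd (Nat.card_pos (α := S)) (by omega)
  | succ n ih =>
    intro S _ _ hS hn hi
    set M₀ : Subgroup S := Cfsg.powerClosure p 1 (commutator S) ⊔ ⁅commutator S, (⊤ : Subgroup S)⁆ with hM₀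
    have hM₀n : M₀.Normal := sup_normal _ _
    by_cases hM : M₀ = ⊥
    · refine case_bot hp2 hS hi ?_ ?_
      · exact le_bot_iff.1 (hM ▸ (le_sup_right : _ ≤ M₀))
      · intro x hx
        have h1 : x ^ p ∈ M₀ := mem_sup_left (H14.Regular.pow_mem_powerClosure_one hx)
        rw [hM, mem_bot] at h1
        exact h1
    · obtain ⟨k, hk⟩ := (hS.to_subgroup M₀).exists_card_eq
      have hk1 : 1 ≤ k := by
        by_contra h
        have : k = 0 := by omega
        subst this
        rw [pow_zero] at hk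
        exact hM (card_eq_one.1 hk)
      obtain ⟨T, hTn, hTM, hTc⟩ := H3.RankTwo.exists_normal_card hS M₀ hk hk1
      rw [pow_one] at hTc
      have hcen := H3.OmegaRankTwo.le_center_of_card_le hS T hTc.le
      have hlt : Nat.card (S ⧸ T) ≤ n := by
        have h2 := T.card_eq_card_quotient_mul_card_subgroup
        rw [hTc] at h2
        have h3 : Nat.card (S ⧸ T) * 2 ≤ Nat.card (S ⧸ T) * p :=
          Nat.mul_le_mul_left _ hp.out.two_le
        have h4 : 0 < Nat.card (S ⧸ T) := Nat.card_pos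
        omega
      refine case_lift hS T hcen hTc hTM (ih _ (hS.to_quotient T) hlt ?_)
      have h5 := H14.Regular.map_powerClosure (QuotientGroup.mk' T) p 1 (⊤ : Subgroup S)
      rw [← MonoidHom.range_eq_map, QuotientGroup.range_mk'] at h5
      rw [← h5]
      refine (Nat.le_of_dvd (Nat.pos_of_ne_zero index_ne_zero_of_finite)
        (index_map_dvd _ (QuotientGroup.mk'_surjective T))).trans hi

end H13.Huppert
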