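import Mathlib.GroupTheory.Sylow
import Mathlib.GroupTheory.PGroup
import Cfsg.Agent.Lib.H13.CoprimeHyper
import Cfsg.Agent.Lib.H13.Coprime
import Cfsg.Agent.Lib.H13.Cores
import Cfsg.Agent.Lib.H13.Fix
import Cfsg.Agent.Lib.H13.ElemAb
import Cfsg.Agent.Lib.H13.Norm
import Cfsg.Prelude.Def_LocalEven
import Cfsg.Prelude.Def_CaseTheorems

set_option autoImplicit false

/-!
Groups of local characteristic `p` and characteristic `2` type (Klinger-Mason), part 1:
the rank inequality for commuting elementary abelian `p`- and `2`-subgroups.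
-/

namespace H13.KM

open Subgroup
open scoped commutatorElement

universe u

variable {G : Type u} [Group G] {p : ℕ}

/-- every `q`-local subgroup has characteristic `q` -/
def LC (q : ℕ) (G : Type u) [Group G] : Prop :=
  ∀ T : Subgroup G, IsPGroup q T → T ≠ ⊥ →
    centralizer (Cfsg.pCore q ↥(normalizer (T : Set G)) : Set ↥(normalizer (T : Set G))) ≤
      Cfsg.pCore q ↥(normalizer (T : Set G))

/-- `R` is a normal self-centralizing `q`-subgroup of `C_G(D)` -/
structure Big (q : ℕ) (D R : Subgroup G) : Prop where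
  pg : IsPGroup q R
  le : R ≤ centralizer (D : Set G)
  nrm : centralizer (D : Set G) ≤ normalizer (R : Set G)
  cent : ∀ x ∈ centralizer (D : Set G), x ∈ centralizer (R : Set G) → x ∈ R

theorem eq_one_of_coprime_orderOf {x : G} {m n : ℕ} (hm : x ^ m = 1) (hn : x ^ n = 1) (h : Nat.Coprime m n) :
    x = 1 := by
  rw [← orderOf_eq_one_iff, ← Nat.dvd_one, ← h]
  exact Nat.dvd_gcd (orderOf_dvd_of_pow_eq_one hm) (orderOf_dvd_of_pow_eq_one hn)

theorem exists_big [Finite G] {q : ℕ} [hq : Fact q.Prime] (h : LC q G) {D : Subgroup G} (hD : IsPGroup q D)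
    (hD1 : D ≠ ⊥) : ∃ R : Subgroup G, Big q D R := by
  set N := normalizer (D : Set G) with hN
  set P := (Cfsg.pCore q N).map N.subtype with hP
  have hPp : IsPGroup q P := Cores.isPGroup_map_subtype_pCore N
  have hPN : P ≤ N := Cores.map_subtype_pCore_le N
  have hCN : centralizer (D : Set G) ≤ N := fun x hx => by
    rw [hN]
    exact Subgroup.centralizer_le_normalizer _ hx
  have hNP : N ≤ normalizer (P : Set G) :=
    le_trans Subgroup.le_normalizer (Cores.normalizer_le_normalizer_map_pCore N)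
  have hNC : N ≤ normalizer ((centralizer (D : Set G) : Subgroup G) : Set G) :=
    Norm.normalizer_le_normalizer_centralizer D
  set R := P ⊓ centralizer (D : Set G) with hR
  have hRp : IsPGroup q R := hPp.to_le inf_le_left
  have hNR : N ≤ normalizer (R : Set G) := Norm.le_normalizer_inf hNP hNC
  set X := centralizer (D : Set G) ⊓ centralizer (R : Set G) with hX
  have hNX : N ≤ normalizer (X : Set G) := Norm.le_normalizer_inf hNC (Norm.le_normalizer_centralizer hNR)
  have hcent : ∀ x ∈ N, x ∈ centralizer (P : Set G) → x ∈ P := by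
    intro x hx hx2
    have h1 : (⟨x, hx⟩ : N) ∈ centralizer (Cfsg.pCore q N : Set N) := by
      rw [mem_centralizer_iff]
      intro y hy
      apply Subtype.ext
      exact mem_centralizer_iff.1 hx2 _ ⟨y, hy, rfl⟩
    exact ⟨_, h D hD hD1 h1, rfl⟩
  -- `q'`-elements of `X` are trivial
  have key : ∀ x ∈ X, (orderOf x).Coprime q → x = 1 := by
    intro x hx hxq
    have hxN : x ∈ N := hCN hx.1
    have h1 : x ∈ centralizer (P : Set G) := by
      rw [mem_centralizer_iff]
      intro y hy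
      -- `c = y⁻¹ x⁻¹ y x`-type commutator
      set c := y⁻¹ * (x * y * x⁻¹) with hc
      have hcP : c ∈ P := mul_mem (inv_mem hy) (Norm.conj_mem hNP hxN hy)
      have hcC : c ∈ centralizer (D : Set G) := by
        have h2 : y⁻¹ * x * y ∈ centralizer (D : Set G) := Norm.conj_mem' hNC (hPN hy) hx.1
        have h3 : c = (y⁻¹ * x * y) * x⁻¹ := by rw [hc]; group
        rw [h3]
        exact mul_mem h2 (inv_mem hx.1)
      have hcR : c ∈ R := ⟨hcP, hcC⟩
      have hcx : Commute c x := mem_centralizer_iff.1 hx.2 c hcR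
      have hxy : x * y * x⁻¹ = y * c := by rw [hc]; group
      have hpow : ∀ n : ℕ, x ^ n * y * (x ^ n)⁻¹ = y * c ^ n := by
        intro n
        induction n with
        | zero => simp
        | succ n ih =>
          calc x ^ (n + 1) * y * (x ^ (n + 1))⁻¹ = x * (x ^ n * y * (x ^ n)⁻¹) * x⁻¹ := by
                rw [pow_succ']; group
            _ = x * (y * c ^ n) * x⁻¹ := by rw [ih]
            _ = (x * y * x⁻¹) * (x * c ^ n * x⁻¹) := by group
            _ = (y * c) * c ^ n := by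
                rw [hxy]
                congr 1
                rw [mul_inv_eq_iff_eq_mul]
                exact ((hcx.pow_left n).eq).symm
            _ = y * c ^ (n + 1) := by rw [mul_assoc, ← pow_succ']
      have h4 : c ^ orderOf x = 1 := by
        have h5 := hpow (orderOf x)
        rw [pow_orderOf_eq_one, one_mul, inv_one, mul_one] at h5
        exact (mul_eq_left.1 h5.symm)
      obtain ⟨k, hk⟩ := hPp ⟨c, hcP⟩
      have h6 : c ^ q ^ k = 1 := by
        have := congrArg Subtype.val hk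
        simpa using this
      have h7 : c = 1 := eq_one_of_coprime_orderOf h4 h6 (Nat.Coprime.pow_right k hxq)
      rw [h7, mul_one] at hxy
      rw [mul_inv_eq_iff_eq_mul] at hxy
      exact hxy.symm
    have h2 : x ∈ P := hcent x hxN h1
    obtain ⟨k, hk⟩ := hPp ⟨x, h2⟩
    have h6 : x ^ q ^ k = 1 := by
      have := congrArg Subtype.val hk
      simpa using this
    exact eq_one_of_coprime_orderOf (pow_orderOf_eq_one x) h6 (Nat.Coprime.pow_right k hxq)
  have hXp : IsPGroup q X := by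
    intro x
    obtain ⟨m, k, hk, hm⟩ : ∃ m k : ℕ, Nat.Coprime m q ∧ orderOf (x : G) = m * q ^ k := by
      have h0 : orderOf (x : G) ≠ 0 := (orderOf_pos _).ne'
      refine ⟨orderOf (x : G) / q ^ (orderOf (x : G)).factorization q, (orderOf (x : G)).factorization q, ?_, ?_⟩
      · exact (Nat.coprime_ordCompl hq.out h0).symm
      · rw [mul_comm]; exact (Nat.ordProj_mul_ordCompl_eq_self _ _).symm
    refine ⟨k, ?_⟩
    have h1 : ((x : G) ^ q ^ k) = 1 := by
      apply key _ (pow_mem x.2 _)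
      have h2 : ((x : G) ^ q ^ k) ^ m = 1 := by
        rw [← pow_mul, mul_comm, ← hm, pow_orderOf_eq_one]
      exact Nat.Coprime.coprime_dvd_left (orderOf_dvd_of_pow_eq_one h2) hk
    exact Subtype.ext (by simpa using h1)
  have hXN : X ≤ N := fun x hx => hCN hx.1
  have hXP : X ≤ P := Cores.le_map_pCore hXN hNX hXp
  exact ⟨R, hRp, inf_le_right, le_trans hCN hNR, fun x hx hx2 => ⟨hXP ⟨hx, hx2⟩, hx⟩⟩

/-! ### Cardinalities of elementary abelian groups -/

theorem mem_sup_zpowers {E : Subgroup G} {x g : G} (hx : x ∈ centralizer (E : Set G)) :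
    g ∈ E ⊔ zpowers x ↔ ∃ e ∈ E, ∃ i : ℤ, e * x ^ i = g := by
  have h1 : E ≤ normalizer ((zpowers x : Subgroup G) : Set G) := by
    intro e he
    apply Subgroup.centralizer_le_normalizer
    rw [mem_centralizer_iff]
    rintro y ⟨i, rfl⟩
    exact (Commute.zpow_right (mem_centralizer_iff.1 hx e he : Commute e x) i).eq.symm
  rw [Norm.mem_sup_of_le_normalizer h1]
  constructor
  · rintro ⟨e, he, y, ⟨i, rfl⟩, h⟩
    exact ⟨e, he, i, h⟩
  · rintro ⟨e, he, i, h⟩
    exact ⟨e, he, _, ⟨i, rfl⟩, h⟩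

theorem card_sup_zpowers [Finite G] {q : ℕ} [hq : Fact q.Prime] {E : Subgroup G} {x : G}
    (hx : x ∈ centralizer (E : Set G)) (hxq : orderOf x = q) (hxE : x ∉ E) :
    Nat.card ↥(E ⊔ zpowers x) = Nat.card E * q := by
  have h1 : E ≤ normalizer ((zpowers x : Subgroup G) : Set G) := by
    intro e he
    apply Subgroup.centralizer_le_normalizer
    rw [mem_centralizer_iff]
    rintro y ⟨i, rfl⟩
    exact (Commute.zpow_right (mem_centralizer_iff.1 hx e he : Commute e x) i).eq.symm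
  have h2 : E ⊓ zpowers x = ⊥ := by
    have hc : Nat.card (zpowers x) = q := by rw [Nat.card_zpowers, hxq]
    have h3 : Nat.card ↥(E ⊓ zpowers x) ∣ q := by
      rw [← hc]; exact card_dvd_of_le inf_le_right
    rcases (Nat.dvd_prime hq.out).1 h3 with h4 | h4
    · exact Subgroup.card_eq_one.1 h4
    · exfalso
      apply hxE
      have h5 : E ⊓ zpowers x = zpowers x :=
        Subgroup.eq_of_le_of_card_ge inf_le_right (by rw [h4, hc])
      exact (h5.ge (mem_zpowers x)).1
  have h3 : (E ⊔ zpowers x : Subgroup G) = E ⊔ zpowers x := rfl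
  have h4 : Nat.card E * Nat.card (zpowers x) = Nat.card ↥(E ⊔ zpowers x) := by
    rw [← Nat.card_prod]
    refine Nat.card_congr (Equiv.ofBijective (fun y : E × zpowers x => (⟨(y.1 : G) * y.2, mul_mem
      (mem_sup_left y.1.2) (mem_sup_right y.2.2)⟩ : ↥(E ⊔ zpowers x))) ⟨?_, ?_⟩)
    · rintro ⟨a, b⟩ ⟨c, d⟩ h
      have h5 : (a : G) * b = c * d := congrArg Subtype.val h
      have h6 : (c : G)⁻¹ * a = d * (b : G)⁻¹ := by
        rw [eq_mul_inv_iff_mul_eq, mul_assoc, h5]; group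
      have h7 : (c : G)⁻¹ * a ∈ E ⊓ zpowers x :=
        Subgroup.mem_inf.2 ⟨mul_mem (inv_mem c.2) a.2, by rw [h6]; exact mul_mem d.2 (inv_mem b.2)⟩
      rw [h2, mem_bot] at h7
      have h8 : (a : G) = c := (inv_mul_eq_one.1 h7).symm
      have h9 : (b : G) = d := by rw [h8] at h5; exact mul_left_cancel h5
      exact Prod.ext (Subtype.ext h8) (Subtype.ext h9)
    · rintro ⟨y, hy⟩
      obtain ⟨e, he, i, h⟩ := (mem_sup_zpowers hx).1 hy
      exact ⟨(⟨e, he⟩, ⟨x ^ i, ⟨i, rfl⟩⟩), Subtype.ext h⟩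
  rw [← h4, Nat.card_zpowers, hxq]

theorem elemAb_sup_zpowers {q : ℕ} {E : Subgroup G} (hE : Cfsg.IsElementaryAbelian q E) {x : G}
    (hx : x ∈ centralizer (E : Set G)) (hxq : x ^ q = 1) : Cfsg.IsElementaryAbelian q (E ⊔ zpowers x) := by
  apply ElemAb.sup hE (ElemAb.zpowers hxq)
  intro e he
  rw [mem_centralizer_iff]
  rintro y ⟨i, rfl⟩
  exact (Commute.zpow_right (mem_centralizer_iff.1 hx e he : Commute e x) i).eq.symm

theorem coprime_two_of_isPGroup [Finite G] {q : ℕ} [hq : Fact q.Prime] (hq2 : q ≠ 2) {R : Subgroup G}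
    (hR : IsPGroup q R) : (Nat.card R).Coprime 2 := by
  obtain ⟨n, hn⟩ := IsPGroup.iff_card.1 hR
  rw [hn]
  exact Nat.Coprime.pow_left _ ((Nat.coprime_primes hq.out Nat.prime_two).2 hq2)

theorem coprime_of_isPGroup [Finite G] {q r : ℕ} [hq : Fact q.Prime] [hr : Fact r.Prime] (hqr : q ≠ r)
    {R : Subgroup G} (hR : IsPGroup q R) : (Nat.card R).Coprime r := by
  obtain ⟨n, hn⟩ := IsPGroup.iff_card.1 hR
  rw [hn]
  exact Nat.Coprime.pow_left _ ((Nat.coprime_primes hq.out hr.out).2 hqr)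

theorem inf_eq_bot_of_isPGroup [Finite G] {q r : ℕ} [hq : Fact q.Prime] [hr : Fact r.Prime] (hqr : q ≠ r)
    {A B : Subgroup G} (hA : IsPGroup q A) (hB : IsPGroup r B) : A ⊓ B = ⊥ := by
  rw [eq_bot_iff]
  rintro x ⟨hxA, hxB⟩
  obtain ⟨k, hk⟩ := hA ⟨x, hxA⟩
  obtain ⟨l, hl⟩ := hB ⟨x, hxB⟩
  have h1 : x ^ q ^ k = 1 := by simpa using congrArg Subtype.val hk
  have h2 : x ^ r ^ l = 1 := by simpa using congrArg Subtype.val hl
  exact mem_bot.2 (eq_one_of_coprime_orderOf h1 h2
    (Nat.Coprime.pow _ _ ((Nat.coprime_primes hq.out hr.out).2 hqr)))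

/-- A `2`-group acting on something: the basic step. -/
theorem step [Finite G] [hp : Fact p.Prime] (hp2 : p ≠ 2) {B E R : Subgroup G} (hR : Big p B R)
    (hE : Cfsg.IsElementaryAbelian 2 E) (hE1 : E ≠ ⊥) (hBE : E ≤ centralizer (B : Set G)) :
    ∃ E₁ ≤ E, E₁.relIndex E = 2 ∧ ∃ e ∈ E, ∃ v ∈ R, orderOf v = p ∧ v ∈ centralizer (E₁ : Set G) ∧
      e * v * e⁻¹ = v⁻¹ := by
  have : Fact (Nat.Prime 2) := ⟨Nat.prime_two⟩
  have hEp : IsPGroup 2 E := ElemAb.isPGroup hE
  have hEN : E ≤ normalizer (R : Set G) := le_trans hBE hR.nrm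
  have hne : ⁅R, E⁆ ≠ ⊥ := by
    intro h
    rw [commutator_eq_bot_iff_le_centralizer] at h
    have h1 : E ≤ R := fun x hx => hR.cent x (hBE hx) (by
      rw [mem_centralizer_iff]
      intro y hy
      exact (mem_centralizer_iff.1 (h hy) x hx).symm)
    have h2 := inf_eq_bot_of_isPGroup hp2 hR.pg hEp
    rw [inf_eq_right.2 h1] at h2
    exact hE1 h2
  obtain ⟨E₁, hE₁, hidx, hne2⟩ := CoprimeHyper.exists_hyper hE (coprime_two_of_isPGroup hp2 hR.pg) hEN hne
  refine ⟨E₁, hE₁, hidx, ?_⟩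
  have h3 : ¬ (R ⊓ centralizer (E₁ : Set G)) ≤ centralizer (E : Set G) := by
    intro h
    exact hne2 (commutator_eq_bot_iff_le_centralizer.2 h)
  obtain ⟨r, hr, hr2⟩ := SetLike.not_le_iff_exists.1 h3
  have h4 : ∃ e ∈ E, ⁅r, e⁆ ≠ 1 := by
    by_contra hcon
    push Not at hcon
    apply hr2
    rw [mem_centralizer_iff]
    intro e he
    exact (commutatorElement_eq_one_iff_mul_comm.1 (hcon e he)).symm
  obtain ⟨e, he, hre⟩ := h4
  have he2 : e * e = 1 := by rw [← pow_two]; exact hE.2 e he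
  have hei : e⁻¹ = e := inv_eq_of_mul_eq_one_left he2
  set w := ⁅r, e⁆ with hw
  have hN1 : E ≤ normalizer ((R ⊓ centralizer (E₁ : Set G) : Subgroup G) : Set G) := by
    apply Norm.le_normalizer_inf hEN
    apply Norm.le_normalizer_centralizer
    intro x hx
    apply Subgroup.centralizer_le_normalizer
    rw [mem_centralizer_iff]
    intro y hy
    exact ElemAb.comm hE (hE₁ hy) hx
  have hwR : w ∈ R ⊓ centralizer (E₁ : Set G) := by
    have h5 : w = r * (e * r⁻¹ * e⁻¹) := by rw [hw, commutatorElement_def]; group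
    rw [h5]
    exact mul_mem hr (Norm.conj_mem hN1 he (inv_mem hr))
  have hew : e * w * e⁻¹ = w⁻¹ := by
    rw [hw, commutatorElement_def, hei]
    simp only [mul_inv_rev, inv_inv, hei]
    calc e * (r * e * r⁻¹ * e) * e = e * r * e * r⁻¹ * (e * e) := by group
      _ = e * (r * (e * r⁻¹)) := by rw [he2]; group
  obtain ⟨k, hk⟩ := IsPGroup.iff_orderOf.1 hR.pg ⟨w, hwR.1⟩
  rw [Subgroup.orderOf_mk] at hk
  have hk0 : k ≠ 0 := by
    rintro rfl
    rw [pow_zero, orderOf_eq_one_iff] at hk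
    exact hre hk
  refine ⟨e, he, w ^ p ^ (k - 1), pow_mem hwR.1 _, ?_, ?_, ?_⟩
  · rw [orderOf_pow' _ (pow_ne_zero _ hp.out.ne_zero), hk]
    rw [Nat.gcd_eq_right (pow_dvd_pow p (Nat.sub_le k 1))]
    rw [Nat.pow_div (Nat.sub_le k 1) hp.out.pos]
    rw [Nat.sub_sub_self (Nat.one_le_iff_ne_zero.2 hk0), pow_one]
  · exact (pow_mem hwR _ : w ^ p ^ (k - 1) ∈ R ⊓ centralizer (E₁ : Set G)).2
  · rw [← conj_pow, hew, inv_pow]

theorem not_mem_of_inverted [Finite G] [hp : Fact p.Prime] (hp2 : p ≠ 2) {B : Subgroup G} {e v : G}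
    (heB : e ∈ centralizer (B : Set G)) (hv : orderOf v = p) (hev : e * v * e⁻¹ = v⁻¹) : v ∉ B := by
  intro hvB
  have h1 : v * e = e * v := mem_centralizer_iff.1 heB v hvB
  rw [← h1, mul_inv_cancel_right] at hev
  have h2 : v ^ 2 = 1 := by
    rw [pow_two]; nth_rw 1 [hev]; exact inv_mul_cancel v
  have h3 : v = 1 := eq_one_of_coprime_orderOf (pow_orderOf_eq_one v) h2 (by
    rw [hv]; exact (Nat.coprime_primes hp.out Nat.prime_two).2 hp2)
  rw [h3, orderOf_one] at hv
  exact hp.out.one_lt.ne hv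

/-- The rank inequality. -/
theorem exists_rank [Finite G] [hp : Fact p.Prime] (hp2 : p ≠ 2) (h : LC p G) (n : ℕ) :
    ∀ B E : Subgroup G, Cfsg.IsElementaryAbelian p B → B ≠ ⊥ → Cfsg.IsElementaryAbelian 2 E →
      Nat.card E = 2 ^ (n + 1) → E ≤ centralizer (B : Set G) →
      ∃ d ∈ E, d ≠ 1 ∧ ∃ C : Subgroup G, Cfsg.IsElementaryAbelian p C ∧ B ≤ C ∧ d ∈ centralizer (C : Set G) ∧
        Nat.card C = Nat.card B * p ^ n := by
  have : Fact (Nat.Prime 2) := ⟨Nat.prime_two⟩
  induction n with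
  | zero =>
    intro B E hB hB1 hE hcard hBE
    have h1 : E ≠ ⊥ := by
      rintro rfl
      rw [Subgroup.card_bot] at hcard
      norm_num at hcard
    obtain ⟨⟨d, hd⟩, hd1⟩ := (Subgroup.ne_bot_iff_exists_ne_one).1 h1
    have hd1 : d ≠ 1 := fun hh => hd1 (Subtype.ext hh)
    exact ⟨d, hd, hd1, B, hB, le_rfl, hBE hd, by simp⟩
  | succ n ih =>
    intro B E hB hB1 hE hcard hBE
    have h1 : E ≠ ⊥ := by
      rintro rfl
      rw [Subgroup.card_bot] at hcard
      have : 1 < 2 ^ (n + 1 + 1) := Nat.one_lt_two_pow (by omega)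
      omega
    obtain ⟨R, hR⟩ := exists_big h (ElemAb.isPGroup hB) hB1
    obtain ⟨E₁, hE₁, hidx, e, he, v, hvR, hvp, hvE, hev⟩ := step hp2 hR hE h1 hBE
    have hvB : v ∈ centralizer (B : Set G) := hR.le hvR
    have hvnB : v ∉ B := not_mem_of_inverted hp2 (hBE he) hvp hev
    have hB' := elemAb_sup_zpowers hB hvB (by rw [← hvp]; exact pow_orderOf_eq_one v)
    have hcard1 : Nat.card E₁ = 2 ^ (n + 1) := by
      have h2 := Subgroup.card_mul_index (E₁.subgroupOf E)
      rw [Subgroup.relIndex] at hidx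
      rw [hidx, Coprime.card_subgroupOf hE₁, hcard, pow_succ] at h2
      exact Nat.eq_of_mul_eq_mul_right (by norm_num) h2
    have hcE : E₁ ≤ centralizer ((B ⊔ zpowers v : Subgroup G) : Set G) := by
      rw [Norm.centralizer_sup]
      refine le_inf (le_trans hE₁ hBE) ?_
      intro x hx
      rw [mem_centralizer_iff]
      rintro y ⟨i, rfl⟩
      exact (Commute.zpow_left (mem_centralizer_iff.1 hvE x hx : Commute x v).symm i).eq
    obtain ⟨d, hd, hd1, C, hC, hBC, hdC, hcardC⟩ := ih (B ⊔ zpowers v) E₁ hB'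
      (ne_bot_of_le_ne_bot hB1 le_sup_left) (ElemAb.of_le hE hE₁) hcard1 hcE
    refine ⟨d, hE₁ hd, hd1, C, hC, le_trans le_sup_left hBC, hdC, ?_⟩
    rw [hcardC, card_sup_zpowers hvB hvp hvnB, pow_succ']
    ring

end H13.KM
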