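import Cfsg.Agent.Lib.H13.KM1
import Cfsg.Agent.Lib.H39.Crit

set_option autoImplicit false

/-!
Klinger-Mason, part 2: the structure of `O_2(C_G(z))` for an involution `z` centralized by an
elementary abelian `p`-group of the largest possible rank.
-/

namespace H13.KM

open Subgroup
open scoped commutatorElement

universe u

variable {G : Type u} [Group G] {p : ℕ}

/-- rank bound for centralizers of involutions -/
def Bd (p k : ℕ) (G : Type u) [Group G] : Prop :=
  ∀ d : G, d ^ 2 = 1 → d ≠ 1 → ∀ A : Subgroup G, Cfsg.IsElementaryAbelian p A → d ∈ centralizer (A : Set G) →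
    Nat.card A ≤ p ^ k

theorem card_of_relIndex [Finite G] {A B : Subgroup G} (hBA : B ≤ A) {q k : ℕ} (hq : q ≠ 0)
    (h : B.relIndex A = q) (hA : Nat.card A = q ^ (k + 1)) : Nat.card B = q ^ k := by
  have h2 := Subgroup.card_mul_index (B.subgroupOf A)
  rw [Subgroup.relIndex] at h
  rw [h, Coprime.card_subgroupOf hBA, hA, pow_succ] at h2
  exact Nat.eq_of_mul_eq_mul_right (Nat.pos_of_ne_zero hq) h2

theorem rank_le [Finite G] [hp : Fact p.Prime] (hp2 : p ≠ 2) (h : LC p G) {k : ℕ} (hb : Bd p k G) (n : ℕ)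
    (B E : Subgroup G) (hB : Cfsg.IsElementaryAbelian p B) (hB1 : B ≠ ⊥) (hE : Cfsg.IsElementaryAbelian 2 E)
    (hcard : Nat.card E = 2 ^ (n + 1)) (hBE : E ≤ centralizer (B : Set G)) :
    Nat.card B * p ^ n ≤ p ^ k := by
  obtain ⟨d, hd, hd1, C, hC, hBC, hdC, hcardC⟩ := exists_rank hp2 h n B E hB hB1 hE hcard hBE
  rw [← hcardC]
  exact hb d (hE.2 d hd) hd1 C hC hdC

theorem two_of_sq {d : G} (h : d ^ 2 = 1) (h1 : d ≠ 1) : orderOf d = 2 :=
  orderOf_eq_prime h h1

theorem mem_zpowers_two {d x : G} (h : d ^ 2 = 1) : x ∈ zpowers d ↔ x = 1 ∨ x = d := by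
  constructor
  · rintro ⟨i, rfl⟩
    rcases Int.even_or_odd i with ⟨j, hj⟩ | ⟨j, hj⟩
    · left
      show d ^ i = 1
      rw [hj, ← two_mul, zpow_mul, zpow_ofNat, h, one_zpow]
    · right
      show d ^ i = d
      rw [hj, zpow_add, zpow_mul, zpow_ofNat, h, one_zpow, one_mul, zpow_one]
  · rintro (rfl | rfl)
    · exact one_mem _
    · exact mem_zpowers _

/-- the coset trick -/
theorem coset_fix [hp : Fact p.Prime] (hp2 : p ≠ 2) {a t c : G} (ha : a ^ p = 1) (hac : Commute a c) (hc : c ^ 2 = 1)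
    (h : a * t * a⁻¹ = t * c) : c = 1 := by
  have hpow : ∀ n : ℕ, a ^ n * t * (a ^ n)⁻¹ = t * c ^ n := by
    intro n
    induction n with
    | zero => simp
    | succ n ih =>
      calc a ^ (n + 1) * t * (a ^ (n + 1))⁻¹ = a * (a ^ n * t * (a ^ n)⁻¹) * a⁻¹ := by
            rw [pow_succ']; group
        _ = a * (t * c ^ n) * a⁻¹ := by rw [ih]
        _ = (a * t * a⁻¹) * (a * c ^ n * a⁻¹) := by group
        _ = (t * c) * c ^ n := by
            rw [h]
            congr 1
            rw [mul_inv_eq_iff_eq_mul]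
            exact (hac.pow_right n).eq
        _ = t * c ^ (n + 1) := by rw [mul_assoc, ← pow_succ']
  have h4 : c ^ p = 1 := by
    have h5 := hpow p
    rw [ha, one_mul, inv_one, mul_one] at h5
    exact (mul_eq_left.1 h5.symm)
  exact eq_one_of_coprime_orderOf h4 hc ((Nat.coprime_primes hp.out Nat.prime_two).2 hp2)

theorem card_pair [Finite G] {z w : G} (hz : z ^ 2 = 1) (hz1 : z ≠ 1) (hw : w ^ 2 = 1) (hzw : Commute z w)
    (hwz : w ∉ zpowers z) : Cfsg.IsElementaryAbelian 2 (zpowers z ⊔ zpowers w) ∧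
      Nat.card ↥(zpowers z ⊔ zpowers w) = 4 := by
  have : Fact (Nat.Prime 2) := ⟨Nat.prime_two⟩
  have h1 : w ∈ centralizer ((zpowers z : Subgroup G) : Set G) := by
    rw [mem_centralizer_iff]
    rintro y ⟨i, rfl⟩
    exact (hzw.zpow_left i).eq
  have hw1 : w ≠ 1 := fun h => hwz (by rw [h]; exact one_mem _)
  refine ⟨elemAb_sup_zpowers (ElemAb.zpowers hz) h1 hw, ?_⟩
  rw [card_sup_zpowers h1 (two_of_sq hw hw1) hwz, Nat.card_zpowers, two_of_sq hz hz1]

theorem card_add [Finite G] {E : Subgroup G} (hE : Cfsg.IsElementaryAbelian 2 E) {w : G} (hw : w ^ 2 = 1)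
    (hEw : ∀ e ∈ E, Commute e w) (hwE : w ∉ E) : Cfsg.IsElementaryAbelian 2 (E ⊔ zpowers w) ∧
      Nat.card ↥(E ⊔ zpowers w) = Nat.card E * 2 := by
  have : Fact (Nat.Prime 2) := ⟨Nat.prime_two⟩
  have h1 : w ∈ centralizer (E : Set G) := by
    rw [mem_centralizer_iff]
    intro y hy
    exact (hEw y hy).eq
  have hw1 : w ≠ 1 := fun h => hwE (by rw [h]; exact one_mem _)
  exact ⟨elemAb_sup_zpowers hE h1 hw, card_sup_zpowers h1 (two_of_sq hw hw1) hwE⟩

theorem mem_add {E : Subgroup G} {w g : G} (hw : w ^ 2 = 1) (hEw : ∀ e ∈ E, Commute e w)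
    (hg : g ∈ E ⊔ zpowers w) : g ∈ E ∨ g * w ∈ E := by
  have h1 : w ∈ centralizer (E : Set G) := by
    rw [mem_centralizer_iff]
    intro y hy
    exact (hEw y hy).eq
  obtain ⟨e, he, i, rfl⟩ := (mem_sup_zpowers h1).1 hg
  have h2 : w ^ i ∈ zpowers w := ⟨i, rfl⟩
  rcases (mem_zpowers_two hw).1 h2 with h3 | h3
  · left; rw [h3, mul_one]; exact he
  · right
    rw [h3, mul_assoc, ← pow_two, hw, mul_one]; exact he

theorem isPGroup_zpowers_two {z : G} (hz : z ^ 2 = 1) : IsPGroup 2 (zpowers z) := by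
  intro x
  refine ⟨1, ?_⟩
  rcases (mem_zpowers_two hz).1 x.2 with h | h
  · exact Subtype.ext (by rw [pow_one, SubmonoidClass.coe_pow, h, one_pow]; rfl)
  · exact Subtype.ext (by rw [pow_one, SubmonoidClass.coe_pow, h, hz]; rfl)

/-- getting an involution with a centralizer of largest rank -/
theorem exists_start [Finite G] [hp : Fact p.Prime] (hp2 : p ≠ 2) (h : LC p G) {k : ℕ} {T A : Subgroup G}
    (hT : IsPGroup 2 T) (hT1 : T ≠ ⊥) (hA : Cfsg.IsElementaryAbelian p A) (hAT : A ≤ normalizer (T : Set G))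
    (hcard : Nat.card A = p ^ (k + 2)) :
    ∃ z : G, z ^ 2 = 1 ∧ z ≠ 1 ∧ ∃ A' : Subgroup G, Cfsg.IsElementaryAbelian p A' ∧
      z ∈ centralizer (A' : Set G) ∧ Nat.card A' = p ^ (k + 2) := by
  have : Fact (Nat.Prime 2) := ⟨Nat.prime_two⟩
  have exInv : ∀ D : Subgroup G, IsPGroup 2 D → D ≠ ⊥ → ∃ z ∈ D, z ^ 2 = 1 ∧ z ≠ 1 := by
    intro D hD hD1
    have hne : Nat.card D ≠ 1 := fun hh => hD1 (Subgroup.card_eq_one.1 hh)
    obtain ⟨n, hn⟩ := IsPGroup.iff_card.1 hD
    have hn0 : n ≠ 0 := by rintro rfl; exact hne (by rw [hn, pow_zero])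
    obtain ⟨x, hx⟩ := exists_prime_orderOf_dvd_card' (G := D) 2 (by rw [hn]; exact dvd_pow_self 2 hn0)
    refine ⟨x, x.2, ?_, ?_⟩
    · have := pow_orderOf_eq_one x
      rw [hx] at this
      simpa using congrArg Subtype.val this
    · intro hh
      have : x = 1 := Subtype.ext hh
      rw [this, orderOf_one] at hx
      omega
  by_cases hc : T ⊓ centralizer (A : Set G) = ⊥
  swap
  · obtain ⟨z, hz, hz2, hz1⟩ := exInv _ (hT.to_le inf_le_left) hc
    exact ⟨z, hz2, hz1, A, hA, hz.2, hcard⟩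
  have hne : ⁅T, A⁆ ≠ ⊥ := by
    intro hh
    rw [commutator_eq_bot_iff_le_centralizer] at hh
    rw [inf_eq_left.2 hh] at hc
    exact hT1 hc
  obtain ⟨B, hBA, hidx, hne2⟩ := CoprimeHyper.exists_hyper hA (coprime_of_isPGroup (Ne.symm hp2) hT) hAT hne
  set D := T ⊓ centralizer (B : Set G) with hD
  have hD1 : D ≠ ⊥ := by
    intro hh
    rw [hh, commutator_bot_left] at hne2
    exact hne2 rfl
  have hDp : IsPGroup 2 D := hT.to_le inf_le_left
  have hAD : A ≤ normalizer (D : Set G) := by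
    apply Norm.le_normalizer_inf hAT
    apply Norm.le_normalizer_centralizer
    intro x hx
    apply Subgroup.centralizer_le_normalizer
    rw [mem_centralizer_iff]
    intro y hy
    exact ElemAb.comm hA (hBA hy) hx
  -- an involution in the centre of `D`
  have hZ1 : D ⊓ centralizer (D : Set G) ≠ ⊥ := by
    have : Nontrivial D := (Subgroup.nontrivial_iff_ne_bot D).2 hD1
    have h1 : Nontrivial (center D) := hDp.center_nontrivial
    obtain ⟨⟨x, hx⟩, hx1⟩ := exists_ne (1 : center D)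
    intro hh
    apply hx1
    have h2 : (x : G) ∈ D ⊓ centralizer (D : Set G) := by
      refine Subgroup.mem_inf.2 ⟨x.2, ?_⟩
      rw [mem_centralizer_iff]
      intro y hy
      exact congrArg Subtype.val (mem_center_iff.1 hx ⟨y, hy⟩)
    rw [hh, mem_bot] at h2
    exact Subtype.ext (Subtype.ext h2)
  obtain ⟨u, hu, hu2, hu1⟩ := exInv _ (hDp.to_le inf_le_left) hZ1
  have hua : ∃ a ∈ A, a * u * a⁻¹ ≠ u := by
    by_contra hcon
    push Not at hcon
    have h1 : u ∈ T ⊓ centralizer (A : Set G) := by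
      refine Subgroup.mem_inf.2 ⟨hu.1.1, ?_⟩
      rw [mem_centralizer_iff]
      intro a ha
      exact mul_inv_eq_iff_eq_mul.1 (hcon a ha)
    rw [hc, mem_bot] at h1
    exact hu1 h1
  obtain ⟨a, ha, hau⟩ := hua
  set w := a * u * a⁻¹ with hw
  have hwD : w ∈ D := Norm.conj_mem hAD ha hu.1
  have hw2 : w ^ 2 = 1 := by rw [hw, conj_pow, hu2]; group
  have huw : Commute u w := ((mem_centralizer_iff.1 hu.2 w hwD).symm : u * w = w * u)
  have hwu : w ∉ zpowers u := by
    intro hh
    rcases (mem_zpowers_two hu2).1 hh with h1 | h1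
    · rw [hw] at h1
      apply hu1
      rw [mul_inv_eq_one] at h1
      exact mul_eq_left.1 h1
    · exact hau h1
  obtain ⟨hE, hEc⟩ := card_pair hu2 hu1 hw2 huw hwu
  have hBcard : Nat.card B = p ^ (k + 1) := card_of_relIndex hBA hp.out.ne_zero hidx hcard
  have hB1 : B ≠ ⊥ := by
    rintro rfl
    rw [Subgroup.card_bot] at hBcard
    have := Nat.one_lt_pow (n := k + 1) (by omega) hp.out.one_lt
    omega
  have hEB : zpowers u ⊔ zpowers w ≤ centralizer (B : Set G) := by
    rw [sup_le_iff, zpowers_le, zpowers_le]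
    exact ⟨hu.1.2, hwD.2⟩
  obtain ⟨d, hd, hd1, C, hC, hBC, hdC, hcardC⟩ := exists_rank hp2 h 1 B _ (ElemAb.of_le hA hBA) hB1 hE
    (by rw [hEc]; norm_num) hEB
  refine ⟨d, hE.2 d hd, hd1, C, hC, hdC, ?_⟩
  rw [hcardC, hBcard]; ring

/-- every `A`-invariant elementary abelian subgroup of `O_2(C_G(z))` is contained in `⟨z⟩` -/
theorem inv_le [Finite G] [hp : Fact p.Prime] (hp2 : p ≠ 2) (h : LC p G) {k : ℕ} (hb : Bd p (k + 2) G)
    {z : G} (hz : z ^ 2 = 1) (hz1 : z ≠ 1) {A V : Subgroup G} (hA : Cfsg.IsElementaryAbelian p A)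
    (hzA : z ∈ centralizer (A : Set G)) (hcard : Nat.card A = p ^ (k + 2))
    (hV : Cfsg.IsElementaryAbelian 2 V) (hVz : ∀ v ∈ V, Commute z v) (hAV : A ≤ normalizer (V : Set G)) :
    V ≤ zpowers z := by
  have : Fact (Nat.Prime 2) := ⟨Nat.prime_two⟩
  have hA1 : A ≠ ⊥ := by
    rintro rfl
    rw [Subgroup.card_bot] at hcard
    have := Nat.one_lt_pow (n := k + 2) (by omega) hp.out.one_lt
    omega
  by_cases hne : ⁅V, A⁆ = ⊥
  · by_contra hcon
    obtain ⟨v, hv, hvz⟩ := SetLike.not_le_iff_exists.1 hcon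
    obtain ⟨hE, hEc⟩ := card_pair hz hz1 (hV.2 v hv) (hVz v hv) hvz
    have hEA : zpowers z ⊔ zpowers v ≤ centralizer (A : Set G) := by
      rw [sup_le_iff, zpowers_le, zpowers_le]
      exact ⟨hzA, (commutator_eq_bot_iff_le_centralizer.1 hne) hv⟩
    have h1 := rank_le hp2 h hb 1 A _ hA hA1 hE (by rw [hEc]; norm_num) hEA
    rw [hcard, ← pow_add] at h1
    exact absurd h1 (not_le.2 (Nat.pow_lt_pow_right hp.out.one_lt (by omega)))
  · exfalso
    obtain ⟨B, hBA, hidx, hne2⟩ := CoprimeHyper.exists_hyper hA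
      (coprime_of_isPGroup (Ne.symm hp2) (ElemAb.isPGroup hV)) hAV hne
    have h1 : ∃ w ∈ V ⊓ centralizer (B : Set G), ∃ a ∈ A, a * w * a⁻¹ ≠ w := by
      by_contra hcon
      push Not at hcon
      apply hne2
      rw [commutator_eq_bot_iff_le_centralizer]
      intro w hw
      rw [mem_centralizer_iff]
      intro a ha
      exact mul_inv_eq_iff_eq_mul.1 (hcon w hw a ha)
    obtain ⟨w, hw, a, ha, haw⟩ := h1
    have hAD : A ≤ normalizer ((V ⊓ centralizer (B : Set G) : Subgroup G) : Set G) := by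
      apply Norm.le_normalizer_inf hAV
      apply Norm.le_normalizer_centralizer
      intro x hx
      apply Subgroup.centralizer_le_normalizer
      rw [mem_centralizer_iff]
      intro y hy
      exact ElemAb.comm hA (hBA hy) hx
    have hza : Commute a z := (mem_centralizer_iff.1 hzA a ha : a * z = z * a)
    set w' := a * w * a⁻¹ with hw'
    have hw'D : w' ∈ V ⊓ centralizer (B : Set G) := Norm.conj_mem hAD ha hw
    have hw2 : w ^ 2 = 1 := hV.2 w hw.1
    have hw'2 : w' ^ 2 = 1 := hV.2 w' hw'D.1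
    have hwz : w ∉ zpowers z := by
      intro hh
      apply haw
      rcases (mem_zpowers_two hz).1 hh with h2 | h2
      · rw [hw', h2]; group
      · rw [hw', h2, mul_inv_eq_iff_eq_mul]; exact hza
    obtain ⟨hE, hEc⟩ := card_pair hz hz1 hw2 (hVz w hw.1) hwz
    have hEw' : ∀ e ∈ zpowers z ⊔ zpowers w, Commute e w' := by
      intro e he
      obtain ⟨x, hx, i, rfl⟩ := (mem_sup_zpowers (E := zpowers z) (x := w) (by
        rw [mem_centralizer_iff]
        rintro y ⟨i, rfl⟩
        exact ((hVz w hw.1).zpow_left i).eq)).1 he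
      obtain ⟨j, rfl⟩ := hx
      have hww : Commute w w' := ElemAb.comm hV hw.1 hw'D.1
      exact ((hVz w' hw'D.1).zpow_left j).mul_left (hww.zpow_left i)
    have hw'E : w' ∉ zpowers z ⊔ zpowers w := by
      intro hh
      have hzw : ∀ e ∈ zpowers z, Commute e w := by
        rintro e ⟨i, rfl⟩
        exact (hVz w hw.1).zpow_left i
      rcases mem_add hw2 hzw hh with h2 | h2
      · rcases (mem_zpowers_two hz).1 h2 with h3 | h3
        · rw [hw', mul_inv_eq_one] at h3
          have h4 : w = 1 := mul_eq_left.1 h3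
          exact hwz (by rw [h4]; exact one_mem _)
        · -- a w a⁻¹ = z
          have h4 : w = z := by
            have h5 : a * w = z * a := mul_inv_eq_iff_eq_mul.1 h3
            rw [← hza.eq] at h5
            exact mul_left_cancel h5
          exact hwz (by rw [h4]; exact mem_zpowers z)
      · rcases (mem_zpowers_two hz).1 h2 with h3 | h3
        · apply haw
          have h4 : w' = w⁻¹ := eq_inv_of_mul_eq_one_left h3
          rw [h4]
          exact inv_eq_of_mul_eq_one_left (by rw [← pow_two]; exact hw2)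
        · -- w' = z w
          have h4 : w' = w * z := by
            have h5 : w' = z * w⁻¹ := eq_mul_inv_of_mul_eq h3
            rw [h5, inv_eq_of_mul_eq_one_left (by rw [← pow_two]; exact hw2)]
            exact (hVz w hw.1).eq
          have h5 : z = 1 := coset_fix hp2 (hA.2 a ha) hza hz (by rw [← hw']; exact h4)
          exact hz1 h5
    obtain ⟨hE', hE'c⟩ := card_add hE hw'2 hEw' hw'E
    have hBcard : Nat.card B = p ^ (k + 1) := card_of_relIndex hBA hp.out.ne_zero hidx hcard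
    have hB1 : B ≠ ⊥ := by
      rintro rfl
      rw [Subgroup.card_bot] at hBcard
      have := Nat.one_lt_pow (n := k + 1) (by omega) hp.out.one_lt
      omega
    have hEB : (zpowers z ⊔ zpowers w) ⊔ zpowers w' ≤ centralizer (B : Set G) := by
      rw [sup_le_iff, sup_le_iff, zpowers_le, zpowers_le, zpowers_le]
      exact ⟨⟨centralizer_le hBA hzA, hw.2⟩, hw'D.2⟩
    have h6 := rank_le hp2 h hb 2 B _ (ElemAb.of_le hA hBA) hB1 hE'
      (by rw [hE'c, hEc]; norm_num) hEB
    rw [hBcard, ← pow_add] at h6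
    exact absurd h6 (not_le.2 (Nat.pow_lt_pow_right hp.out.one_lt (by omega)))

end H13.KM
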