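import Cfsg.Agent.Lib.H13.KM2

set_option autoImplicit false

/-!
Klinger-Mason, part 3: the extraspecial type subgroup `Y = [C, A]` of `O_2(C_G(z))`.
-/

namespace H13.KM

open Subgroup
open scoped commutatorElement

universe u

variable {G : Type u} [Group G] {p : ℕ}

/-- If `[C, C] ≤ ⟨z⟩` with `z` central then `[C, B] ∩ C(B) ≤ ⟨z⟩` for a coprime `B`. -/
theorem comm_inf_le [Finite G] [hp : Fact p.Prime] (hp2 : p ≠ 2) {z : G} {C B : Subgroup G} (hC : IsPGroup 2 C)
    (hB : IsPGroup p B) (hzC : ∀ c ∈ C, Commute z c) (hzB : ∀ b ∈ B, Commute z b)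
    (hCC : ⁅C, C⁆ ≤ zpowers z) (hBC : B ≤ normalizer (C : Set G)) :
    ⁅C, B⁆ ⊓ centralizer (B : Set G) ≤ zpowers z := by
  have : Fact (Nat.Prime 2) := ⟨Nat.prime_two⟩
  set H : Subgroup G := centralizer ({z} : Set G) with hH
  have hCH : C ≤ H := fun c hc => by
    rw [hH, mem_centralizer_singleton_iff]; exact (hzC c hc).eq.symm
  have hBH : B ≤ H := fun c hc => by
    rw [hH, mem_centralizer_singleton_iff]; exact (hzB c hc).eq.symm
  set Z : Subgroup H := (zpowers z).subgroupOf H with hZ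
  have hZn : Z.Normal := by
    constructor
    rintro x ⟨i, hi⟩ g
    have hi' : z ^ i = (x : G) := hi
    refine ⟨i, ?_⟩
    show z ^ i = (g : G) * x * (g : G)⁻¹
    rw [← hi']
    have h1 : (g : G) * z = z * g := mem_centralizer_singleton_iff.1 g.2
    have h2 : Commute (g : G) (z ^ i) := Commute.zpow_right h1 i
    rw [h2.eq]; group
  set f := QuotientGroup.mk' Z with hf
  set C' : Subgroup (H ⧸ Z) := (C.subgroupOf H).map f with hC'
  set B' : Subgroup (H ⧸ Z) := (B.subgroupOf H).map f with hB'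
  have hC'p : IsPGroup 2 C' := (Cores.isPGroup_subgroupOf hC H).map f
  have hB'p : IsPGroup p B' := (Cores.isPGroup_subgroupOf hB H).map f
  have hmap : ∀ K L : Subgroup G, K ≤ H → L ≤ H →
      (⁅K.subgroupOf H, L.subgroupOf H⁆).map H.subtype = ⁅K, L⁆ := by
    intro K L hK hL
    rw [map_commutator, subgroupOf_map_subtype, subgroupOf_map_subtype, inf_eq_left.2 hK, inf_eq_left.2 hL]
  have hC'c : C' ≤ centralizer (C' : Set (H ⧸ Z)) := by
    rw [← commutator_eq_bot_iff_le_centralizer, hC', ← map_commutator]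
    rw [Subgroup.map_eq_bot_iff, hf, QuotientGroup.ker_mk']
    intro x hx
    have h1 : (x : G) ∈ ⁅C, C⁆ := by
      rw [← hmap C C hCH hCH]
      exact ⟨x, hx, rfl⟩
    exact hCC h1
  have hB'C' : B' ≤ normalizer (C' : Set (H ⧸ Z)) := by
    rintro _ ⟨b, hb, rfl⟩
    apply Norm.mem_normalizer_of
    · rintro _ ⟨c, hc, rfl⟩
      exact ⟨b * c * b⁻¹, Norm.conj_mem hBC hb hc, by rw [map_mul, map_mul, map_inv]⟩
    · rintro _ ⟨c, hc, rfl⟩
      exact ⟨b⁻¹ * c * b, Norm.conj_mem' hBC hb hc, by rw [map_mul, map_mul, map_inv]⟩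
  have hmain := Fix.comm_inf_centralizer hC'c hC'p (coprime_of_isPGroup hp2 hB'p) hB'C'
  intro x hx
  obtain ⟨hx1, hx2⟩ := Subgroup.mem_inf.1 hx
  rw [← hmap C B hCH hBH] at hx1
  obtain ⟨y, hy, rfl⟩ := hx1
  have h1 : f y ∈ ⁅C', B'⁆ := by
    rw [hC', hB', ← map_commutator]
    exact ⟨y, hy, rfl⟩
  have h2 : f y ∈ centralizer (B' : Set (H ⧸ Z)) := by
    rw [mem_centralizer_iff]
    rintro _ ⟨b, hb, rfl⟩
    rw [← map_mul, ← map_mul]
    congr 1
    exact Subtype.ext (mem_centralizer_iff.1 hx2 b hb)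
  have h3 : f y ∈ (⊥ : Subgroup (H ⧸ Z)) := by
    rw [← hmain]; exact ⟨h1, h2⟩
  rw [mem_bot, hf, QuotientGroup.mk'_apply, QuotientGroup.eq_one_iff] at h3
  exact h3

/-- the data attached to an involution `z` and an elementary abelian group `A` of largest rank -/
structure Dat (z : G) (A Q Y : Subgroup G) : Prop where
  YQ : Y ≤ Q
  com : ∀ x ∈ Y, ∀ y ∈ Y, ⁅x, y⁆ ∈ zpowers z
  sq : ∀ y ∈ Y, y ^ 2 ∈ zpowers z
  nrm : A ≤ normalizer (Y : Set G)
  nrm' : ∀ f ∈ centralizer ({z} : Set G), f ∈ normalizer (A : Set G) → f ∈ normalizer (Y : Set G)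
  inf : ∀ B ≤ A, ⁅Y, B⁆ ⊓ centralizer (B : Set G) ≤ zpowers z
  infA : Y ⊓ centralizer (A : Set G) ≤ zpowers z
  faith : ∀ a ∈ A, a ∈ centralizer (Y : Set G) → a = 1

theorem exists_dat [Finite G] [hp : Fact p.Prime] (hp2 : p ≠ 2) (h : LC p G) {k : ℕ} (hb : Bd p (k + 2) G)
    {z : G} (hz : z ^ 2 = 1) (hz1 : z ≠ 1) {A Q : Subgroup G} (hA : Cfsg.IsElementaryAbelian p A)
    (hzA : z ∈ centralizer (A : Set G)) (hcard : Nat.card A = p ^ (k + 2)) (hQ : Big 2 (zpowers z) Q) :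
    ∃ Y : Subgroup G, Dat z A Q Y := by
  have : Fact (Nat.Prime 2) := ⟨Nat.prime_two⟩
  have hAp : IsPGroup p A := ElemAb.isPGroup hA
  have hcz : ∀ x : G, x ∈ centralizer ((zpowers z : Subgroup G) : Set G) ↔ Commute z x := by
    intro x
    rw [mem_centralizer_iff]
    constructor
    · intro hh
      exact hh z (mem_zpowers z)
    · rintro hh y ⟨i, rfl⟩
      exact (Commute.zpow_left hh i).eq
  have hQz : ∀ x ∈ Q, Commute z x := fun x hx => (hcz x).1 (hQ.le hx)
  have hAz : ∀ a ∈ A, Commute z a := fun a ha => (mem_centralizer_iff.1 hzA a ha : a * z = z * a).symm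
  have hAQ : A ≤ normalizer (Q : Set G) := fun a ha => hQ.nrm ((hcz a).2 (hAz a ha))
  obtain ⟨C, hC⟩ := H39.Crit.exists_isCrit hQ.pg
  have hCQ := hC.le
  have hCp : IsPGroup 2 C := hQ.pg.to_le hCQ
  have hNC : normalizer (Q : Set G) ≤ normalizer (C : Set G) := by
    have h1 := hC.char
    have h2 := Cores.normalizer_le_normalizer_map Q (C.subgroupOf Q)
    rwa [map_subgroupOf_eq_of_le hCQ] at h2
  have hAC : A ≤ normalizer (C : Set G) := le_trans hAQ hNC
  -- the centre of `C`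
  set Z := C ⊓ centralizer (C : Set G) with hZ
  have hZc : Z ≤ centralizer (Z : Set G) := by
    intro x hx
    rw [mem_centralizer_iff]
    intro y hy
    exact mem_centralizer_iff.1 hx.2 y hy.1
  have hAZ : A ≤ normalizer (Z : Set G) := Norm.le_normalizer_inf hAC (Norm.le_normalizer_centralizer hAC)
  have hZsq : ∀ x ∈ Z, x ^ 2 = 1 → x ∈ zpowers z := by
    -- Omega_1 of an invariant abelian subgroup
    set V := Cfsg.omegaOne 2 Z with hV
    have hVe : Cfsg.IsElementaryAbelian 2 V := Omega.isElementaryAbelian_omegaOne hZc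
    have hAV : A ≤ normalizer (V : Set G) := by
      intro a ha
      apply Norm.mem_normalizer_of
      · intro x hx
        rw [hV, Omega.mem_omegaOne hZc] at hx ⊢
        exact ⟨Norm.conj_mem hAZ ha hx.1, by rw [conj_pow, hx.2]; group⟩
      · intro x hx
        rw [hV, Omega.mem_omegaOne hZc] at hx ⊢
        refine ⟨Norm.conj_mem' hAZ ha hx.1, ?_⟩
        have h3 : (a⁻¹ * x * a) ^ 2 = a⁻¹ * x ^ 2 * a := by rw [pow_two, pow_two]; group
        rw [h3, hx.2]; group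
    have h4 := inv_le hp2 h hb hz hz1 hA hzA hcard hVe
      (fun v hv => hQz v (hCQ ((Omega.mem_omegaOne hZc).1 hv).1.1)) hAV
    intro x hx hx2
    exact h4 ((Omega.mem_omegaOne hZc).2 ⟨hx, hx2⟩)
  have hZA : Z ≤ centralizer (A : Set G) := by
    rw [← commutator_eq_bot_iff_le_centralizer]
    by_contra hne
    have h1 := Fix.comm_inf_centralizer hZc (hCp.to_le inf_le_left) (coprime_of_isPGroup hp2 hAp) hAZ
    have hle : ⁅Z, A⁆ ≤ Z := Coprime.comm_le hAZ
    -- an involution of `[Z, A]`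
    have hDp : IsPGroup 2 ↥⁅Z, A⁆ := hCp.to_le (le_trans hle inf_le_left)
    have hne' : Nat.card ↥⁅Z, A⁆ ≠ 1 := fun hh => hne (Subgroup.card_eq_one.1 hh)
    obtain ⟨n, hn⟩ := IsPGroup.iff_card.1 hDp
    have hn0 : n ≠ 0 := by rintro rfl; exact hne' (by rw [hn, pow_zero])
    obtain ⟨x, hx⟩ := exists_prime_orderOf_dvd_card' (G := ↥⁅Z, A⁆) 2 (by rw [hn]; exact dvd_pow_self 2 hn0)
    have hx2 : (x : G) ^ 2 = 1 := by
      have h5 := pow_orderOf_eq_one x
      rw [hx] at h5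
      simpa using congrArg Subtype.val h5
    have hx1 : (x : G) ≠ 1 := by
      intro hh
      have h5 : x = 1 := Subtype.ext hh
      rw [h5, orderOf_one] at hx
      omega
    have hxz := hZsq x (hle x.2) hx2
    have hxA : (x : G) ∈ centralizer (A : Set G) := (zpowers_le.2 hzA) hxz
    have h6 : (x : G) ∈ ⁅Z, A⁆ ⊓ centralizer (A : Set G) := ⟨x.2, hxA⟩
    rw [h1, mem_bot] at h6
    exact hx1 h6
  -- `[C, C] ≤ ⟨z⟩`
  have hcomm : ∀ x ∈ C, ∀ y ∈ C, ⁅x, y⁆ ∈ zpowers z := by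
    intro x hx y hy
    have h1 : ⁅x, y⁆ ∈ ⁅C, C⁆ := commutator_mem_commutator hx hy
    have h2 : ⁅x, y⁆ ∈ C := by
      have : ⁅C, C⁆ ≤ C := commutator_le_self C
      exact this h1
    have h3 : ⁅x, y⁆ ∈ Z := ⟨h2, hC.c2 h1⟩
    apply hZsq _ h3
    have h4 : Commute x ⁅x, y⁆ := mem_centralizer_iff.1 h3.2 x hx
    -- [x², y] = [x, y]²
    have h5 : ⁅x ^ 2, y⁆ = ⁅x, y⁆ ^ 2 := by
      have h6 : x * y * x⁻¹ = ⁅x, y⁆ * y := by rw [commutatorElement_def]; group
      have h7 : x ^ 2 * y * (x ^ 2)⁻¹ = ⁅x, y⁆ ^ 2 * y := by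
        calc x ^ 2 * y * (x ^ 2)⁻¹ = x * (x * y * x⁻¹) * x⁻¹ := by rw [pow_two]; group
          _ = x * (⁅x, y⁆ * y) * x⁻¹ := by rw [h6]
          _ = (x * ⁅x, y⁆ * x⁻¹) * (x * y * x⁻¹) := by group
          _ = ⁅x, y⁆ * (⁅x, y⁆ * y) := by rw [h6, h4.eq]; group
          _ = ⁅x, y⁆ ^ 2 * y := by rw [pow_two]; group
      rw [commutatorElement_def, h7]; group
    rw [← h5, commutatorElement_eq_one_iff_mul_comm]
    exact (mem_centralizer_iff.1 (hC.c1 x hx).2 y hy).symm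
  have hCC : ⁅C, C⁆ ≤ zpowers z := commutator_le.2 hcomm
  have hCz : ∀ c ∈ C, Commute z c := fun c hc => hQz c (hCQ hc)
  set Y := ⁅C, A⁆ with hY
  have hYC : Y ≤ C := Coprime.comm_le hAC
  -- squares
  have hsq : ∀ y ∈ Y, y ^ 2 ∈ zpowers z := by
    have hzc : ∀ s ∈ zpowers z, ∀ c : G, Commute z c → Commute s c := by
      rintro s ⟨i, rfl⟩ c hc
      exact hc.zpow_left i
    -- the subgroup of elements with square in `⟨z⟩`
    have hmulsq : ∀ x ∈ C, ∀ y ∈ C, ∃ s ∈ zpowers z, (x * y) ^ 2 = x ^ 2 * y ^ 2 * s := by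
      intro x hx y hy
      refine ⟨⁅y⁻¹, x⁻¹⁆, hcomm _ (inv_mem hy) _ (inv_mem hx), ?_⟩
      have hs := hcomm _ (inv_mem hy) _ (inv_mem hx)
      have h1 : Commute ⁅y⁻¹, x⁻¹⁆ y := hzc _ hs y (hCz y hy)
      calc (x * y) ^ 2 = x * (y * x) * y := by rw [pow_two]; group
        _ = x * (x * y * ⁅y⁻¹, x⁻¹⁆) * y := by rw [commutatorElement_def]; group
        _ = x ^ 2 * y * (⁅y⁻¹, x⁻¹⁆ * y) := by rw [pow_two]; group
        _ = x ^ 2 * y ^ 2 * ⁅y⁻¹, x⁻¹⁆ := by rw [h1.eq, pow_two, pow_two]; group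
    have hUmem : ∀ y ∈ Y, y ∈ C ∧ y ^ 2 ∈ zpowers z := by
      intro y hy
      rw [hY, Subgroup.commutator_def] at hy
      induction hy using closure_induction with
      | mem g hg =>
        obtain ⟨c, hc, a, ha, rfl⟩ := hg
        have hcinv : a * c⁻¹ * a⁻¹ ∈ C := Norm.conj_mem hAC ha (inv_mem hc)
        have h1 : ⁅c, a⁆ = c * (a * c⁻¹ * a⁻¹) := by rw [commutatorElement_def]; group
        refine ⟨by rw [h1]; exact mul_mem hc hcinv, ?_⟩
        obtain ⟨s, hs, h2⟩ := hmulsq c hc _ hcinv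
        rw [h1, h2]
        have h3 : (a * c⁻¹ * a⁻¹) ^ 2 = (c ^ 2)⁻¹ := by
          rw [conj_pow, inv_pow, mul_inv_eq_iff_eq_mul]
          have h4 : c ^ 2 ∈ centralizer (A : Set G) := hZA (hC.c1 c hc)
          have h5 : Commute a (c ^ 2) := mem_centralizer_iff.1 h4 a ha
          exact h5.inv_right.eq
        rw [h3, mul_inv_cancel, one_mul]
        exact hs
      | one => exact ⟨one_mem _, by rw [one_pow]; exact one_mem _⟩
      | mul x y _ _ hx hy =>
        refine ⟨mul_mem hx.1 hy.1, ?_⟩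
        obtain ⟨s, hs, h2⟩ := hmulsq x hx.1 y hy.1
        rw [h2]
        exact mul_mem (mul_mem hx.2 hy.2) hs
      | inv x _ hx => exact ⟨inv_mem hx.1, by rw [inv_pow]; exact inv_mem hx.2⟩
    exact fun y hy => (hUmem y hy).2
  have hinf : ∀ B ≤ A, ⁅C, B⁆ ⊓ centralizer (B : Set G) ≤ zpowers z := by
    intro B hBA
    exact comm_inf_le hp2 hCp (hAp.to_le hBA) hCz (fun b hb => hAz b (hBA hb)) hCC (le_trans hBA hAC)
  have hAY : A ≤ normalizer (Y : Set G) := Norm.le_normalizer_commutator hAC Subgroup.le_normalizer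
  refine ⟨Y, le_trans hYC hCQ, fun x hx y hy => hcomm x (hYC hx) y (hYC hy), hsq, hAY, ?_, ?_, hinf A le_rfl, ?_⟩
  · intro f hf hfA
    have hfz : Commute z f := (mem_centralizer_singleton_iff.1 hf : f * z = z * f).symm
    have h1 : zpowers f ≤ normalizer (C : Set G) := by
      rw [zpowers_le]
      exact hNC (hQ.nrm ((hcz f).2 hfz))
    have h2 : zpowers f ≤ normalizer (A : Set G) := by rw [zpowers_le]; exact hfA
    exact Norm.le_normalizer_commutator h1 h2 (mem_zpowers f)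
  · intro B hBA
    exact le_trans (inf_le_inf_right _ (commutator_mono hYC le_rfl)) (hinf B hBA)
  · intro a ha haY
    have haC : a ∈ centralizer (C : Set G) := by
      have h1 : ⁅C, zpowers a⁆ = ⊥ := by
        have hza : zpowers a ≤ A := zpowers_le.2 ha
        apply Coprime.comm_eq_bot_of_comm_comm_eq_bot (hAp.to_le hza) (coprime_of_isPGroup (Ne.symm hp2) hCp)
          (le_trans hza hAC)
        rw [commutator_eq_bot_iff_le_centralizer]
        intro x hx
        rw [mem_centralizer_iff]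
        rintro y ⟨i, rfl⟩
        have h2 : x ∈ Y := commutator_mono le_rfl hza hx
        have h3 : Commute x a := mem_centralizer_iff.1 haY x h2
        exact (h3.zpow_right i).eq.symm
      rw [commutator_eq_bot_iff_le_centralizer] at h1
      rw [mem_centralizer_iff]
      intro c hc
      exact (mem_centralizer_iff.1 (h1 hc) a (mem_zpowers a)).symm
    -- `a` acts trivially on `Q`
    have haQ : a ∈ normalizer (Q : Set G) := hAQ ha
    obtain ⟨l, hl⟩ := hAp ⟨a, ha⟩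
    have hl' : a ^ p ^ l = 1 := by simpa using congrArg Subtype.val hl
    have hord : (orderOf (Q.normalizerMonoidHom ⟨a, haQ⟩)).Coprime 2 := by
      apply Nat.Coprime.coprime_dvd_left (orderOf_map_dvd _ _)
      rw [Subgroup.orderOf_mk]
      exact Nat.Coprime.coprime_dvd_left (orderOf_dvd_of_pow_eq_one hl')
        (Nat.Coprime.pow_left _ ((Nat.coprime_primes hp.out Nat.prime_two).2 hp2))
    have h1 := hC.c5 _ hord (by
      intro c hc
      apply Subtype.ext
      show a * (c : G) * a⁻¹ = c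
      rw [mul_inv_eq_iff_eq_mul]
      exact (mem_centralizer_iff.1 haC c hc).symm)
    have h2 : (⟨a, haQ⟩ : normalizer (Q : Set G)) ∈ (Q.normalizerMonoidHom).ker := h1
    rw [normalizerMonoidHom_ker] at h2
    have h3 : a ∈ centralizer (Q : Set G) := h2
    have h4 : a ∈ Q := hQ.cent a ((hcz a).2 (hAz a ha)) h3
    have h5 : a ∈ A ⊓ Q := ⟨ha, h4⟩
    rw [inf_eq_bot_of_isPGroup hp2 hAp hQ.pg, mem_bot] at h5
    exact h5

end H13.KM
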