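import Cfsg.Agent.Lib.H13.KM3

set_option autoImplicit false

/-!
Klinger-Mason, part 4: the contradiction.
-/

namespace H13.KM

open Subgroup
open scoped commutatorElement

universe u

variable {G : Type u} [Group G] {p : ℕ}

theorem Big.mem_self {q : ℕ} {z : G} {Q : Subgroup G} (hQ : Big q (zpowers z) Q) : z ∈ Q := by
  apply hQ.cent z
  · rw [mem_centralizer_iff]
    rintro y ⟨i, rfl⟩
    exact (Commute.refl z).zpow_left i
  · rw [mem_centralizer_iff]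
    intro x hx
    exact (mem_centralizer_iff.1 (hQ.le hx) z (mem_zpowers z)).symm

theorem Big.commute {q : ℕ} {z : G} {Q : Subgroup G} (hQ : Big q (zpowers z) Q) {x : G} (hx : x ∈ Q) :
    Commute z x := mem_centralizer_iff.1 (hQ.le hx) z (mem_zpowers z)

theorem comm_zp {z s c : G} (hs : s ∈ zpowers z) (h : Commute z c) : Commute s c := by
  obtain ⟨i, rfl⟩ := hs
  exact h.zpow_left i

theorem le_normalizer_inf_centralizer {A B Y : Subgroup G} (hA : Cfsg.IsElementaryAbelian p A)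
    (hBA : B ≤ A) (hAY : A ≤ normalizer (Y : Set G)) :
    A ≤ normalizer ((Y ⊓ centralizer (B : Set G) : Subgroup G) : Set G) := by
  apply Norm.le_normalizer_inf hAY
  apply Norm.le_normalizer_centralizer
  intro x hx
  apply Subgroup.centralizer_le_normalizer
  rw [mem_centralizer_iff]
  intro y hy
  exact ElemAb.comm hA (hBA hy) hx

theorem cross [Finite G] [hp : Fact p.Prime] (hp2 : p ≠ 2) {z : G} {A Q Y : Subgroup G}
    (hQ : Big 2 (zpowers z) Q) (hA : Cfsg.IsElementaryAbelian p A) (hzA : z ∈ centralizer (A : Set G))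
    (D : Dat z A Q Y) {B₁ B₂ : Subgroup G} (h1 : B₁ ≤ A) (h2 : B₂ ≤ A) (h12 : A ≤ B₁ ⊔ B₂) {x y : G}
    (hx : x ∈ Y ⊓ centralizer (B₁ : Set G)) (hy : y ∈ Y ⊓ centralizer (B₂ : Set G)) : Commute x y := by
  have : Fact (Nat.Prime 2) := ⟨Nat.prime_two⟩
  have hYz : ∀ u ∈ Y, Commute z u := fun u hu => hQ.commute (D.YQ hu)
  have hYp : IsPGroup 2 Y := hQ.pg.to_le D.YQ
  set K := Y ⊓ centralizer (B₂ : Set G) with hK
  have hAK : A ≤ normalizer (K : Set G) := le_normalizer_inf_centralizer hA h2 D.nrm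
  have h3 : ⁅K, B₁⁆ ⊔ (K ⊓ centralizer (B₁ : Set G)) = K :=
    Coprime.comm_sup_centralizer ((ElemAb.isPGroup hA).to_le h1)
    (coprime_of_isPGroup (Ne.symm hp2) (hYp.to_le (inf_le_left : K ≤ Y))) (le_trans h1 hAK)
  have h4 : K ≤ centralizer ({x} : Set G) := by
    rw [← h3, sup_le_iff]
    constructor
    · rw [commutator_le]
      intro k hk b hb
      rw [mem_centralizer_singleton_iff]
      set c := ⁅k⁻¹, x⁆ with hc
      have hcz : c ∈ zpowers z := D.com _ (inv_mem hk.1) _ hx.1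
      have hbx : b * x = x * b := mem_centralizer_iff.1 hx.2 b hb
      have hbz : Commute z b := (mem_centralizer_iff.1 hzA b (h1 hb) : b * z = z * b).symm
      -- x k x⁻¹ = k c⁻¹ ...
      have h5 : x * k * x⁻¹ = k * c := by
        rw [hc, commutatorElement_def]; group
      have hcb : Commute c b := comm_zp hcz hbz
      have hck : Commute c k := comm_zp hcz (hYz k hk.1)
      have h6 : x * ⁅k, b⁆ * x⁻¹ = ⁅k, b⁆ := by
        have hxb : x * b * x⁻¹ = b := by rw [← hbx]; group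
        calc x * ⁅k, b⁆ * x⁻¹ = (x * k * x⁻¹) * (x * b * x⁻¹) * (x * k * x⁻¹)⁻¹ * (x * b * x⁻¹)⁻¹ := by
              rw [commutatorElement_def]; group
          _ = (k * c) * b * (k * c)⁻¹ * b⁻¹ := by rw [h5, hxb]
          _ = k * (c * b * c⁻¹) * k⁻¹ * b⁻¹ := by group
          _ = ⁅k, b⁆ := by
            rw [show c * b * c⁻¹ = b by rw [hcb.eq, mul_inv_cancel_right], commutatorElement_def]
      rw [mul_inv_eq_iff_eq_mul] at h6
      exact h6.symm
    · rintro u ⟨hu1, hu2⟩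
      have h5 : u ∈ Y ⊓ centralizer (A : Set G) := by
        refine ⟨hu1.1, ?_⟩
        have h6 : u ∈ centralizer ((B₁ ⊔ B₂ : Subgroup G) : Set G) := by
          rw [Norm.centralizer_sup]
          exact ⟨hu2, hu1.2⟩
        exact centralizer_le h12 h6
      rw [mem_centralizer_singleton_iff]
      exact (comm_zp (D.infA h5) (hYz x hx.1)).eq
  exact (mem_centralizer_singleton_iff.1 (h4 hy) : y * x = x * y).symm

theorem prod_not_mem [Finite G] {z : G} {A Q Y : Subgroup G} (hzA : z ∈ centralizer (A : Set G))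
    (D : Dat z A Q Y) {B₁ B₂ : Subgroup G} (h2 : B₂ ≤ A) (h12 : A ≤ B₁ ⊔ B₂) {t u : G}
    (ht : t ∈ Y ⊓ centralizer (B₁ : Set G)) (htz : t ∉ zpowers z) (hu : u ∈ centralizer (B₂ : Set G)) :
    t * u ∉ zpowers z := by
  intro h
  apply htz
  apply D.infA
  refine ⟨ht.1, ?_⟩
  have h1 : t * u ∈ centralizer (B₂ : Set G) :=
    (zpowers_le.2 (centralizer_le h2 hzA)) h
  have h3 : t ∈ centralizer (B₂ : Set G) := by
    have := mul_mem h1 (inv_mem hu)
    rwa [mul_inv_cancel_right] at this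
  have h6 : t ∈ centralizer ((B₁ ⊔ B₂ : Subgroup G) : Set G) := by
    rw [Norm.centralizer_sup]
    exact ⟨ht.2, h3⟩
  exact centralizer_le h12 h6

theorem exists_pair [Finite G] [hp : Fact p.Prime] (hp2 : p ≠ 2) {z : G} (hz : z ^ 2 = 1) {A Q Y : Subgroup G}
    (hA : Cfsg.IsElementaryAbelian p A) (hzA : z ∈ centralizer (A : Set G)) (D : Dat z A Q Y) {B : Subgroup G}
    (hBA : B ≤ A) (hne : ⁅Y ⊓ centralizer (B : Set G), A⁆ ≠ ⊥) :
    ∃ t ∈ Y ⊓ centralizer (B : Set G), ∃ s ∈ Y ⊓ centralizer (B : Set G), t ∉ zpowers z ∧ s ∉ zpowers z ∧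
      t * s ∉ zpowers z := by
  have h1 : ∃ w ∈ Y ⊓ centralizer (B : Set G), ∃ a ∈ A, a * w * a⁻¹ ≠ w := by
    by_contra hcon
    push Not at hcon
    apply hne
    rw [commutator_eq_bot_iff_le_centralizer]
    intro w hw
    rw [mem_centralizer_iff]
    intro a ha
    exact mul_inv_eq_iff_eq_mul.1 (hcon w hw a ha)
  obtain ⟨t, ht, a, ha, hat⟩ := h1
  have hs : a * t * a⁻¹ ∈ Y ⊓ centralizer (B : Set G) :=
    Norm.conj_mem (le_normalizer_inf_centralizer hA hBA D.nrm) ha ht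
  have haz : Commute z a := (mem_centralizer_iff.1 hzA a ha : a * z = z * a).symm
  refine ⟨t, ht, a * t * a⁻¹, hs, ?_, ?_, ?_⟩
  · intro h
    apply hat
    rw [mul_inv_eq_iff_eq_mul]
    exact (comm_zp h haz).eq.symm
  · intro h
    apply hat
    have h2 : Commute (a * t * a⁻¹) a := comm_zp h haz
    have h3 : a * t * a⁻¹ = t := by
      have h4 : a⁻¹ * (a * t * a⁻¹) * a = t := by group
      rw [mul_assoc, h2.eq, inv_mul_cancel_left] at h4
      exact h4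
    exact h3
  · intro h
    set c := t⁻¹ * (a * t * a⁻¹) with hc
    have hcz : c ∈ zpowers z := by
      have h2 : c = (t ^ 2)⁻¹ * (t * (a * t * a⁻¹)) := by rw [hc, pow_two]; group
      rw [h2]
      exact mul_mem (inv_mem (D.sq t ht.1)) h
    have h3 : a * t * a⁻¹ = t * c := by rw [hc]; group
    have hc2 : c ^ 2 = 1 := by
      rcases (mem_zpowers_two hz).1 hcz with h4 | h4
      · rw [h4, one_pow]
      · rw [h4, hz]
    have h4 := coset_fix hp2 (hA.2 a ha) (comm_zp hcz haz).symm hc2 h3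
    rw [h4, mul_one] at h3
    exact hat h3

theorem sup_of_ne [Finite G] [hp : Fact p.Prime] {A B₁ B₂ : Subgroup G} {m : ℕ} (h1 : B₁ ≤ A) (h2 : B₂ ≤ A)
    (hA : Nat.card A = p ^ (m + 2)) (hc1 : Nat.card B₁ = p ^ (m + 1)) (hc2 : Nat.card B₂ = p ^ (m + 1))
    (hne : B₁ ≠ B₂) : A ≤ B₁ ⊔ B₂ ∧ p ^ m ≤ Nat.card ↥(B₁ ⊓ B₂) := by
  have hle : B₁ ⊔ B₂ ≤ A := sup_le h1 h2
  constructor
  · have h3 : Nat.card ↥(B₁ ⊔ B₂) ∣ p ^ (m + 2) := by rw [← hA]; exact card_dvd_of_le hle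
    obtain ⟨j, hj, hj2⟩ := (Nat.dvd_prime_pow hp.out).1 h3
    have h4 : p ^ (m + 1) ∣ p ^ j := by rw [← hj2, ← hc1]; exact card_dvd_of_le le_sup_left
    have h5 : m + 1 ≤ j := (Nat.pow_dvd_pow_iff_le_right hp.out.one_lt).1 h4
    have h6 : j ≠ m + 1 := by
      rintro rfl
      apply hne
      have h7 : B₁ = B₁ ⊔ B₂ := Subgroup.eq_of_le_of_card_ge le_sup_left (by rw [hj2, hc1])
      have h8 : B₂ = B₁ ⊔ B₂ := Subgroup.eq_of_le_of_card_ge le_sup_right (by rw [hj2, hc2])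
      rw [h7, ← h8]
    have h7 : j = m + 2 := by omega
    have h8 : B₁ ⊔ B₂ = A := Subgroup.eq_of_le_of_card_ge hle (by rw [hj2, hA, h7])
    exact h8.ge
  · have hi : ∀ B : Subgroup G, B ≤ A → Nat.card B = p ^ (m + 1) → B.relIndex A = p := by
      intro B hB hc
      have h3 := Subgroup.card_mul_index (B.subgroupOf A)
      rw [Coprime.card_subgroupOf hB, hA, hc, pow_succ p (m + 1)] at h3
      exact Nat.eq_of_mul_eq_mul_left (pow_pos hp.out.pos _) h3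
    have h3 : (B₁ ⊓ B₂).relIndex A ≤ p * p := by
      have := relIndex_inf_le (H := B₁) (K := B₂) (L := A)
      rwa [hi B₁ h1 hc1, hi B₂ h2 hc2] at this
    have h4 := Subgroup.card_mul_index ((B₁ ⊓ B₂).subgroupOf A)
    rw [Coprime.card_subgroupOf (le_trans inf_le_left h1), hA] at h4
    rw [Subgroup.relIndex] at h3
    have h5 : p ^ (m + 2) ≤ Nat.card ↥(B₁ ⊓ B₂) * (p * p) := by
      rw [← h4]; exact Nat.mul_le_mul_left _ h3
    have h6 : p ^ (m + 2) = p ^ m * (p * p) := by ring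
    rw [h6] at h5
    exact Nat.le_of_mul_le_mul_right h5 (Nat.mul_pos hp.out.pos hp.out.pos)

/-- hyperplane data -/
theorem hyper_ne [Finite G] [hp : Fact p.Prime] (hp2 : p ≠ 2) {z : G} {A Q Y : Subgroup G}
    (hQ : Big 2 (zpowers z) Q) (hA : Cfsg.IsElementaryAbelian p A) (hzA : z ∈ centralizer (A : Set G))
    (D : Dat z A Q Y) {X : Subgroup G} (hX : X ≤ A) (hX1 : X ≠ ⊥) :
    ∃ B ≤ A, B.relIndex A = p ∧ ⁅Y ⊓ centralizer (B : Set G), A⁆ ≠ ⊥ ∧ ¬ X ≤ B := by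
  have : Fact (Nat.Prime 2) := ⟨Nat.prime_two⟩
  have hYp : IsPGroup 2 Y := hQ.pg.to_le D.YQ
  have hYc := coprime_of_isPGroup (Ne.symm hp2) hYp
  have hXY : X ≤ normalizer (Y : Set G) := le_trans hX D.nrm
  set W := ⁅Y, X⁆ with hW
  have hWY : W ≤ Y := Coprime.comm_le hXY
  have hAX : A ≤ normalizer (X : Set G) := by
    intro x hx
    apply Subgroup.centralizer_le_normalizer
    rw [mem_centralizer_iff]
    intro y hy
    exact ElemAb.comm hA (hX hy) hx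
  have hAW : A ≤ normalizer (W : Set G) := Norm.le_normalizer_commutator D.nrm hAX
  have hW1 : W ≠ ⊥ := by
    intro h
    apply hX1
    rw [eq_bot_iff]
    intro x hx
    rw [mem_bot]
    apply D.faith x (hX hx)
    rw [hW, commutator_eq_bot_iff_le_centralizer] at h
    rw [mem_centralizer_iff]
    intro y hy
    exact (mem_centralizer_iff.1 (h hy) x hx).symm
  have hWX : ⁅W, X⁆ = W := Coprime.comm_comm ((ElemAb.isPGroup hA).to_le hX) hYc hXY
  have hWA : ⁅W, A⁆ ≠ ⊥ := by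
    intro h
    apply hW1
    rw [eq_bot_iff, ← hWX, ← h]
    exact commutator_mono le_rfl hX
  obtain ⟨B, hBA, hidx, hne⟩ := CoprimeHyper.exists_hyper hA
    (coprime_of_isPGroup (Ne.symm hp2) (hYp.to_le hWY)) hAW hWA
  refine ⟨B, hBA, hidx, ?_, ?_⟩
  · intro h
    apply hne
    rw [eq_bot_iff, ← h]
    exact commutator_mono (inf_le_inf_right _ hWY) le_rfl
  · intro hXB
    apply hne
    rw [commutator_eq_bot_iff_le_centralizer]
    have h1 : W ⊓ centralizer (B : Set G) ≤ zpowers z :=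
      le_trans (inf_le_inf_left _ (centralizer_le hXB)) (D.inf X hX)
    exact le_trans h1 (zpowers_le.2 hzA)

/-- an extremal commuting pair -/
theorem ext_pair [Finite G] [hp : Fact p.Prime] (hp2 : p ≠ 2) (h : LC p G) {k : ℕ}
    {z : G} (hz : z ^ 2 = 1) (hz1 : z ≠ 1) {A Q Y : Subgroup G} (hQ : Big 2 (zpowers z) Q)
    (hA : Cfsg.IsElementaryAbelian p A) (hzA : z ∈ centralizer (A : Set G))
    (hcard : Nat.card A = p ^ (k + 3)) (D : Dat z A Q Y) :
    ∃ B E : Subgroup G, Cfsg.IsElementaryAbelian p B ∧ Cfsg.IsElementaryAbelian 2 E ∧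
      p ^ (k + 2) ≤ Nat.card B ∧ Nat.card E = 4 ∧ E ≤ centralizer (B : Set G) := by
  have : Fact (Nat.Prime 2) := ⟨Nat.prime_two⟩
  have hA1 : A ≠ ⊥ := by
    rintro rfl
    rw [Subgroup.card_bot] at hcard
    have := Nat.one_lt_pow (n := k + 3) (by omega) hp.out.one_lt
    omega
  obtain ⟨B₁, hB₁, hi₁, hne₁, -⟩ := hyper_ne hp2 hQ hA hzA D le_rfl hA1
  have hc₁ : Nat.card B₁ = p ^ (k + 2) := card_of_relIndex hB₁ hp.out.ne_zero hi₁ hcard
  have hB₁1 : B₁ ≠ ⊥ := by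
    rintro rfl
    rw [Subgroup.card_bot] at hc₁
    have := Nat.one_lt_pow (n := k + 2) (by omega) hp.out.one_lt
    omega
  obtain ⟨B₂, hB₂, hi₂, hne₂, hn⟩ := hyper_ne hp2 hQ hA hzA D hB₁ hB₁1
  have hc₂ : Nat.card B₂ = p ^ (k + 2) := card_of_relIndex hB₂ hp.out.ne_zero hi₂ hcard
  have hne : B₁ ≠ B₂ := by rintro rfl; exact hn le_rfl
  obtain ⟨hsup, hinf⟩ := sup_of_ne hB₁ hB₂ hcard hc₁ hc₂ hne
  have hYz : ∀ u ∈ Y, Commute z u := fun u hu => hQ.commute (D.YQ hu)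
  -- case (i)
  have caseOne : ∀ B ≤ A, Nat.card B = p ^ (k + 2) → (∃ t ∈ Y ⊓ centralizer (B : Set G), t ∉ zpowers z ∧ t ^ 2 = 1) →
      ∃ B E : Subgroup G, Cfsg.IsElementaryAbelian p B ∧ Cfsg.IsElementaryAbelian 2 E ∧
      p ^ (k + 2) ≤ Nat.card B ∧ Nat.card E = 4 ∧ E ≤ centralizer (B : Set G) := by
    rintro B hB hc ⟨t, ht, htz, ht2⟩
    obtain ⟨hE, hEc⟩ := card_pair hz hz1 ht2 (hYz t ht.1) htz
    refine ⟨B, _, ElemAb.of_le hA hB, hE, hc.ge, hEc, ?_⟩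
    rw [sup_le_iff, zpowers_le, zpowers_le]
    exact ⟨centralizer_le hB hzA, ht.2⟩
  by_cases hi1 : ∃ t ∈ Y ⊓ centralizer (B₁ : Set G), t ∉ zpowers z ∧ t ^ 2 = 1
  · exact caseOne B₁ hB₁ hc₁ hi1
  by_cases hi2 : ∃ t ∈ Y ⊓ centralizer (B₂ : Set G), t ∉ zpowers z ∧ t ^ 2 = 1
  · exact caseOne B₂ hB₂ hc₂ hi2
  push Not at hi1 hi2
  have hsqz : ∀ B : Subgroup G, (∀ t ∈ Y ⊓ centralizer (B : Set G), t ∉ zpowers z → t ^ 2 ≠ 1) →
      ∀ t ∈ Y ⊓ centralizer (B : Set G), t ∉ zpowers z → t ^ 2 = z := by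
    intro B hB t ht htz
    rcases (mem_zpowers_two hz).1 (D.sq t ht.1) with h1 | h1
    · exact absurd h1 (hB t ht htz)
    · exact h1
  have hcomm : ∀ B : Subgroup G, (∀ t ∈ Y ⊓ centralizer (B : Set G), t ∉ zpowers z → t ^ 2 ≠ 1) →
      ∀ t ∈ Y ⊓ centralizer (B : Set G), ∀ s ∈ Y ⊓ centralizer (B : Set G), t ∉ zpowers z → s ∉ zpowers z →
        t * s ∉ zpowers z → t * s = z * (s * t) := by
    intro B hB t ht s hs htz hsz htsz
    have h1 := hsqz B hB t ht htz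
    have h2 := hsqz B hB s hs hsz
    have h3 := hsqz B hB _ (mul_mem ht hs) htsz
    have h4 : (t * s) * (t * s) = z := by rw [← pow_two]; exact h3
    have h5 : t * (s * t * s) = z := by rw [← h4]; group
    have h6 : t * t = z := by rw [← pow_two]; exact h1
    have h7 : s * s = z := by rw [← pow_two]; exact h2
    -- s t s = t
    have h8 : s * t * s = t := by
      have : t * (s * t * s) = t * t := by rw [h5, h6]
      exact mul_left_cancel this
    have hzs : Commute z s := hYz s hs.1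
    have hzz : z * z = 1 := by rw [← pow_two]; exact hz
    calc t * s = (s * t * s) * s := by rw [h8]
      _ = s * t * (s * s) := by group
      _ = s * t * z := by rw [h7]
      _ = z * (s * t) := by rw [(hzs.mul_right (hYz t ht.1)).eq]
  obtain ⟨t₁, ht₁, s₁, hs₁, htz₁, hsz₁, hts₁⟩ := exists_pair hp2 hz hA hzA D hB₁ hne₁
  obtain ⟨t₂, ht₂, s₂, hs₂, htz₂, hsz₂, hts₂⟩ := exists_pair hp2 hz hA hzA D hB₂ hne₂
  have cr : ∀ {x y : G}, x ∈ Y ⊓ centralizer (B₁ : Set G) → y ∈ Y ⊓ centralizer (B₂ : Set G) → Commute x y :=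
    fun hx hy => cross hp2 hQ hA hzA D hB₁ hB₂ hsup hx hy
  have hzz : z * z = 1 := by rw [← pow_two]; exact hz
  have sqprod : ∀ a ∈ Y ⊓ centralizer (B₁ : Set G), ∀ b ∈ Y ⊓ centralizer (B₂ : Set G), a ∉ zpowers z →
      b ∉ zpowers z → (a * b) ^ 2 = 1 := by
    intro a ha b hb haz hbz
    rw [(cr ha hb).mul_pow, hsqz B₁ hi1 a ha haz, hsqz B₂ hi2 b hb hbz, hzz]
  set x := t₁ * t₂ with hx
  set y := s₁ * s₂ with hy
  have hx2 : x ^ 2 = 1 := sqprod t₁ ht₁ t₂ ht₂ htz₁ htz₂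
  have hy2 : y ^ 2 = 1 := sqprod s₁ hs₁ s₂ hs₂ hsz₁ hsz₂
  have hxY : x ∈ Y := mul_mem ht₁.1 ht₂.1
  have hyY : y ∈ Y := mul_mem hs₁.1 hs₂.1
  have hxyeq : x * y = (t₁ * s₁) * (t₂ * s₂) := by
    rw [hx, hy]
    calc t₁ * t₂ * (s₁ * s₂) = t₁ * (t₂ * s₁) * s₂ := by group
      _ = t₁ * (s₁ * t₂) * s₂ := by rw [(cr hs₁ ht₂).eq]
      _ = (t₁ * s₁) * (t₂ * s₂) := by group
  have hyxeq : y * x = (s₁ * t₁) * (s₂ * t₂) := by
    rw [hx, hy]
    calc s₁ * s₂ * (t₁ * t₂) = s₁ * (s₂ * t₁) * t₂ := by group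
      _ = s₁ * (t₁ * s₂) * t₂ := by rw [(cr ht₁ hs₂).eq]
      _ = (s₁ * t₁) * (s₂ * t₂) := by group
  have hxyc : Commute x y := by
    show x * y = y * x
    rw [hxyeq, hyxeq, hcomm B₁ hi1 t₁ ht₁ s₁ hs₁ htz₁ hsz₁ hts₁, hcomm B₂ hi2 t₂ ht₂ s₂ hs₂ htz₂ hsz₂ hts₂]
    have h1 : Commute z (s₁ * t₁) := (hYz s₁ hs₁.1).mul_right (hYz t₁ ht₁.1)
    calc z * (s₁ * t₁) * (z * (s₂ * t₂)) = (z * (s₁ * t₁) * z) * (s₂ * t₂) := by group
      _ = ((s₁ * t₁) * z * z) * (s₂ * t₂) := by rw [h1.eq]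
      _ = (s₁ * t₁) * (z * z) * (s₂ * t₂) := by group
      _ = (s₁ * t₁) * (s₂ * t₂) := by rw [hzz, mul_one]
  have hxz : x ∉ zpowers z := prod_not_mem hzA D hB₂ hsup ht₁ htz₁ ht₂.2
  have hyz : y ∉ zpowers z := prod_not_mem hzA D hB₂ hsup hs₁ hsz₁ hs₂.2
  have hxyz : x * y ∉ zpowers z := by
    rw [hxyeq]
    exact prod_not_mem hzA D hB₂ hsup (mul_mem ht₁ hs₁) hts₁ (mul_mem ht₂ hs₂).2
  obtain ⟨hE, hEc⟩ := card_pair hz hz1 hx2 (hYz x hxY) hxz
  have hzx : ∀ e ∈ zpowers z, Commute e x := fun e he => comm_zp he (hYz x hxY)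
  have hEy : ∀ e ∈ zpowers z ⊔ zpowers x, Commute e y := by
    intro e he
    obtain ⟨e', he', i, rfl⟩ := (mem_sup_zpowers (by
      rw [mem_centralizer_iff]
      intro w hw
      exact (hzx w hw).eq)).1 he
    exact (comm_zp he' (hYz y hyY)).mul_left (hxyc.zpow_left i)
  have hyE : y ∉ zpowers z ⊔ zpowers x := by
    intro hh
    rcases mem_add hx2 hzx hh with h2 | h2
    · exact hyz h2
    · rw [← hxyc.eq] at h2
      exact hxyz h2
  obtain ⟨hE', hE'c⟩ := card_add hE hy2 hEy hyE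
  set E := (zpowers z ⊔ zpowers x) ⊔ zpowers y with hEdef
  have hBne : B₁ ⊓ B₂ ≠ ⊥ := by
    intro hh
    rw [hh, Subgroup.card_bot] at hinf
    have := Nat.one_lt_pow (n := k + 1) (by omega) hp.out.one_lt
    omega
  have hB12 : Cfsg.IsElementaryAbelian p (B₁ ⊓ B₂ : Subgroup G) := ElemAb.of_le hA (le_trans inf_le_left hB₁)
  have c1 : centralizer (B₁ : Set G) ≤ centralizer ((B₁ ⊓ B₂ : Subgroup G) : Set G) :=
    centralizer_le (inf_le_left : B₁ ⊓ B₂ ≤ B₁)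
  have c2 : centralizer (B₂ : Set G) ≤ centralizer ((B₁ ⊓ B₂ : Subgroup G) : Set G) :=
    centralizer_le (inf_le_right : B₁ ⊓ B₂ ≤ B₂)
  have hEB : E ≤ centralizer ((B₁ ⊓ B₂ : Subgroup G) : Set G) := by
    rw [hEdef, sup_le_iff, sup_le_iff, zpowers_le, zpowers_le, zpowers_le]
    exact ⟨⟨c1 (centralizer_le hB₁ hzA), mul_mem (c1 ht₁.2) (c2 ht₂.2)⟩, mul_mem (c1 hs₁.2) (c2 hs₂.2)⟩
  have hE1 : E ≠ ⊥ := by
    intro hh
    rw [hh, Subgroup.card_bot, hEc] at hE'c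
    omega
  obtain ⟨R, hR⟩ := exists_big h (ElemAb.isPGroup hB12) hBne
  obtain ⟨E₁, hE₁, hidx, e, he, v, hvR, hvp, hvE, hev⟩ := step hp2 hR hE' hE1 hEB
  have hvB : v ∈ centralizer ((B₁ ⊓ B₂ : Subgroup G) : Set G) := hR.le hvR
  have hvnB : v ∉ B₁ ⊓ B₂ := not_mem_of_inverted hp2 (hEB he) hvp hev
  refine ⟨(B₁ ⊓ B₂) ⊔ zpowers v, E₁, elemAb_sup_zpowers hB12 hvB (by rw [← hvp]; exact pow_orderOf_eq_one v),
    ElemAb.of_le hE' hE₁, ?_, ?_, ?_⟩
  · rw [card_sup_zpowers hvB hvp hvnB, pow_succ]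
    exact Nat.mul_le_mul_right _ hinf
  · have h2 : Nat.card E₁ = 2 ^ 2 := card_of_relIndex hE₁ two_ne_zero hidx (by rw [hE'c, hEc]; norm_num)
    rw [h2]; norm_num
  · rw [Norm.centralizer_sup]
    refine le_inf (le_trans hE₁ hEB) ?_
    intro w hw
    rw [mem_centralizer_iff]
    rintro u ⟨i, rfl⟩
    exact (Commute.zpow_left (mem_centralizer_iff.1 hvE w hw : Commute w v).symm i).eq

end H13.KM
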