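import Cfsg.Agent.Lib.H13.KM4

set_option autoImplicit false

/-!
Klinger-Mason, part 5: in a group of characteristic `2` type and local characteristic `p` (`p` odd), `2`-local
subgroups have `p`-rank at most `2`.
-/

namespace H13.KM

open Subgroup
open scoped commutatorElement

universe u

variable {G : Type u} [Group G] {p : ℕ}

theorem contra [Finite G] [hp : Fact p.Prime] (hp2 : p ≠ 2) (h : LC p G) (h2 : LC 2 G) {k : ℕ}
    (hb : Bd p (k + 3) G) {z : G} (hz : z ^ 2 = 1) (hz1 : z ≠ 1) {A : Subgroup G}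
    (hA : Cfsg.IsElementaryAbelian p A) (hzA : z ∈ centralizer (A : Set G)) (hcard : Nat.card A = p ^ (k + 3)) :
    False := by
  have : Fact (Nat.Prime 2) := ⟨Nat.prime_two⟩
  have hzbot : ∀ d : G, d ≠ 1 → zpowers d ≠ ⊥ := fun d hd hh => hd (zpowers_eq_bot.1 hh)
  obtain ⟨Q₀, hQ₀⟩ := exists_big h2 (isPGroup_zpowers_two hz) (hzbot z hz1)
  obtain ⟨Y₀, D₀⟩ := exists_dat hp2 h (k := k + 1) hb hz hz1 hA hzA hcard hQ₀
  obtain ⟨B, E, hB, hE, hBc, hEc, hEB⟩ := ext_pair hp2 h hz hz1 hQ₀ hA hzA hcard D₀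
  have hBne : B ≠ ⊥ := by
    intro hh
    rw [hh, Subgroup.card_bot] at hBc
    have := Nat.one_lt_pow (n := k + 2) (by omega) hp.out.one_lt
    omega
  have hEne : E ≠ ⊥ := by
    intro hh
    rw [hh, Subgroup.card_bot] at hEc
    omega
  obtain ⟨R, hR⟩ := exists_big h (ElemAb.isPGroup hB) hBne
  obtain ⟨E₁, hE₁, hidx, f, hf, v, hvR, hvp, hvE, hfv⟩ := step hp2 hR hE hEne hEB
  have hE₁c : Nat.card E₁ = 2 ^ 1 := card_of_relIndex hE₁ two_ne_zero hidx (by rw [hEc]; norm_num)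
  have hE₁ne : E₁ ≠ ⊥ := by
    intro hh
    rw [hh, Subgroup.card_bot] at hE₁c
    omega
  obtain ⟨⟨d, hdE₁⟩, hd1'⟩ := (Subgroup.ne_bot_iff_exists_ne_one).1 hE₁ne
  have hd1 : d ≠ 1 := fun hh => hd1' (Subtype.ext hh)
  have hd2 : d ^ 2 = 1 := hE.2 d (hE₁ hdE₁)
  have hf2 : f ^ 2 = 1 := hE.2 f hf
  have hff : f * f = 1 := by rw [← pow_two]; exact hf2
  have hfi : f⁻¹ = f := inv_eq_of_mul_eq_one_left hff
  have hdf : Commute d f := ElemAb.comm hE (hE₁ hdE₁) hf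
  -- the group `A'`
  have hvB : v ∈ centralizer (B : Set G) := hR.le hvR
  have hfB : f ∈ centralizer (B : Set G) := hEB hf
  have hvnB : v ∉ B := not_mem_of_inverted hp2 hfB hvp hfv
  have hvpow : v ^ p = 1 := by rw [← hvp]; exact pow_orderOf_eq_one v
  set A' := B ⊔ zpowers v with hA'def
  have hA' : Cfsg.IsElementaryAbelian p A' := elemAb_sup_zpowers hB hvB hvpow
  have hA'c0 : Nat.card A' = Nat.card B * p := card_sup_zpowers hvB hvp hvnB
  have hvA' : v ∈ A' := mem_sup_right (mem_zpowers v)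
  have hBA' : B ≤ A' := le_sup_left
  have hdv : Commute d v := mem_centralizer_iff.1 hvE d hdE₁
  have hdA' : d ∈ centralizer (A' : Set G) := by
    rw [hA'def, Norm.centralizer_sup]
    refine Subgroup.mem_inf.2 ⟨hEB (hE₁ hdE₁), ?_⟩
    rw [mem_centralizer_iff]
    rintro u ⟨i, rfl⟩
    exact (hdv.zpow_right i).eq.symm
  have hA'le : Nat.card A' ≤ p ^ (k + 3) := hb d hd2 hd1 A' hA' hdA'
  have hBcard : Nat.card B = p ^ (k + 2) := by
    apply le_antisymm _ hBc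
    rw [hA'c0, pow_succ] at hA'le
    exact Nat.le_of_mul_le_mul_right hA'le hp.out.pos
  have hA'c : Nat.card A' = p ^ (k + 3) := by rw [hA'c0, hBcard]; ring
  -- `Q'` and `Y'`
  obtain ⟨Q, hQ⟩ := exists_big h2 (isPGroup_zpowers_two hd2) (hzbot d hd1)
  obtain ⟨Y, D⟩ := exists_dat hp2 h (k := k + 1) hb hd2 hd1 hA' hdA' hA'c hQ
  have hA'p : IsPGroup p A' := ElemAb.isPGroup hA'
  have hcd : ∀ x : G, x ∈ centralizer ((zpowers d : Subgroup G) : Set G) ↔ Commute d x := by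
    intro x
    rw [mem_centralizer_iff]
    constructor
    · intro hh
      exact hh d (mem_zpowers d)
    · rintro hh y ⟨i, rfl⟩
      exact (Commute.zpow_left hh i).eq
  have hvQ : v ∈ normalizer (Q : Set G) := hQ.nrm ((hcd v).2 hdv)
  -- `f` acts on `A'`
  have hfa : ∀ a ∈ A', ∃ b ∈ B, ∃ i : ℤ, a = b * v ^ i ∧ f * a * f⁻¹ = b * v ^ (-i) := by
    intro a ha
    obtain ⟨b, hbB, i, rfl⟩ := (mem_sup_zpowers hvB).1 ha
    refine ⟨b, hbB, i, rfl, ?_⟩
    have h3 : f * b * f⁻¹ = b := by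
      rw [mul_inv_eq_iff_eq_mul]
      exact (mem_centralizer_iff.1 hfB b hbB).symm
    calc f * (b * v ^ i) * f⁻¹ = (f * b * f⁻¹) * (f * v ^ i * f⁻¹) := by group
      _ = b * v ^ (-i) := by rw [h3, ← conj_zpow, hfv, inv_zpow, zpow_neg]
  have hfN : f ∈ normalizer (A' : Set G) := by
    apply Norm.mem_normalizer_of
    · intro a ha
      obtain ⟨b, hbB, i, -, h3⟩ := hfa a ha
      rw [h3]
      exact mul_mem (hBA' hbB) (zpow_mem hvA' _)
    · intro a ha
      obtain ⟨b, hbB, i, -, h3⟩ := hfa a ha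
      rw [hfi] at h3 ⊢
      rw [h3]
      exact mul_mem (hBA' hbB) (zpow_mem hvA' _)
  have hfd : f ∈ centralizer ({d} : Set G) := mem_centralizer_singleton_iff.2 hdf.eq.symm
  have hfY : f ∈ normalizer (Y : Set G) := D.nrm' f hfd hfN
  have hv1 : v ≠ 1 := by
    intro hh
    rw [hh, orderOf_one] at hvp
    exact hp.out.one_lt.ne hvp
  have hv2 : v ^ 2 ≠ 1 := by
    intro hh
    exact hv1 (eq_one_of_coprime_orderOf hvpow hh ((Nat.coprime_primes hp.out Nat.prime_two).2 hp2))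
  have hfQ : f ∉ Q := by
    intro hh
    apply hv2
    have h3 : v * f * v⁻¹ ∈ Q := Norm.conj_mem (A := zpowers v) (by rw [zpowers_le]; exact hvQ) (mem_zpowers v) hh
    have h4 : v * f * v⁻¹ * f⁻¹ ∈ Q := mul_mem h3 (inv_mem hh)
    have h5 : v * f * v⁻¹ * f⁻¹ = v ^ 2 := by
      have h6 : f * v⁻¹ * f⁻¹ = v := by
        have h7 : f * v⁻¹ * f⁻¹ = (f * v * f⁻¹)⁻¹ := by group
        rw [h7, hfv, inv_inv]
      calc v * f * v⁻¹ * f⁻¹ = v * (f * v⁻¹ * f⁻¹) := by group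
        _ = v ^ 2 := by rw [h6, pow_two]
    rw [h5] at h4
    have h6 : v ^ 2 ∈ A' ⊓ Q := ⟨pow_mem hvA' 2, h4⟩
    rw [inf_eq_bot_of_isPGroup hp2 hA'p hQ.pg, mem_bot] at h6
    exact h6
  -- `B` is not in the set of hyperplanes
  have hBtriv : ⁅Y ⊓ centralizer (B : Set G), A'⁆ = ⊥ := by
    rw [commutator_eq_bot_iff_le_centralizer, hA'def, Norm.centralizer_sup]
    intro x hxx
    obtain ⟨hxY, hxB⟩ := Subgroup.mem_inf.1 hxx
    refine Subgroup.mem_inf.2 ⟨hxB, ?_⟩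
    have h3 : v * (x * v * x⁻¹)⁻¹ ∈ R := mul_mem hvR (inv_mem
      (Norm.conj_mem (A := zpowers x) (by rw [zpowers_le]; exact hR.nrm hxB) (mem_zpowers x) hvR))
    have h4 : v * x * v⁻¹ * x⁻¹ ∈ Q := mul_mem
      (Norm.conj_mem (A := zpowers v) (by rw [zpowers_le]; exact hvQ) (mem_zpowers v) (D.YQ hxY))
      (inv_mem (D.YQ hxY))
    have h5 : v * (x * v * x⁻¹)⁻¹ = v * x * v⁻¹ * x⁻¹ := by group
    rw [h5] at h3
    have h6 : v * x * v⁻¹ * x⁻¹ ∈ R ⊓ Q := ⟨h3, h4⟩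
    rw [inf_eq_bot_of_isPGroup hp2 hR.pg hQ.pg, mem_bot] at h6
    have h7 : Commute v x := by
      rw [mul_inv_eq_one, mul_inv_eq_iff_eq_mul] at h6
      exact h6
    rw [mem_centralizer_iff]
    rintro u ⟨i, rfl⟩
    exact (h7.zpow_left i).eq
  -- a hyperplane not containing `v`
  have hvbot : zpowers v ≠ ⊥ := fun hh => hv1 (zpowers_eq_bot.1 hh)
  obtain ⟨B', hB'A, hi', hne', hnv⟩ := hyper_ne hp2 hQ hA' hdA' D (zpowers_le.2 hvA') hvbot
  have hvB' : v ∉ B' := fun hh => hnv (zpowers_le.2 hh)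
  have hB'c : Nat.card B' = p ^ (k + 2) := card_of_relIndex hB'A hp.out.ne_zero hi' hA'c
  have hvinter : ∀ x ∈ B', x ∈ zpowers v → x = 1 := by
    intro x hx hxv
    by_contra hx1
    have h3 : orderOf x = p := by
      apply orderOf_eq_prime _ hx1
      exact hA'.2 x (hB'A hx)
    have h4 : zpowers x = zpowers v := by
      apply Subgroup.eq_of_le_of_card_ge (zpowers_le.2 hxv)
      rw [Nat.card_zpowers, Nat.card_zpowers, h3, hvp]
    have h5 : v ∈ zpowers x := by rw [h4]; exact mem_zpowers v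
    exact hvB' ((zpowers_le.2 hx) h5)
  set Bf : Subgroup G := B'.map (MulAut.conj f).toMonoidHom with hBf
  have hmemBf : ∀ x : G, x ∈ Bf ↔ f * x * f⁻¹ ∈ B' := by
    intro x
    constructor
    · rintro ⟨y, hy, rfl⟩
      show f * (f * y * f⁻¹) * f⁻¹ ∈ B'
      have h3 : f * (f * y * f⁻¹) * f⁻¹ = y := by
        rw [hfi]
        calc f * (f * y * f) * f = (f * f) * y * (f * f) := by group
          _ = y := by rw [hff]; group
      rw [h3]; exact hy
    · intro hx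
      refine ⟨f * x * f⁻¹, hx, ?_⟩
      show f * (f * x * f⁻¹) * f⁻¹ = x
      rw [hfi]
      calc f * (f * x * f) * f = (f * f) * x * (f * f) := by group
        _ = x := by rw [hff]; group
  have hBfA : Bf ≤ A' := by
    intro x hx
    rw [hmemBf] at hx
    have h3 := Norm.conj_mem' (A := zpowers f) (by rw [zpowers_le]; exact hfN) (mem_zpowers f) (hB'A hx)
    have h4 : f⁻¹ * (f * x * f⁻¹) * f = x := by group
    rwa [h4] at h3
  have hBfc : Nat.card Bf = p ^ (k + 2) := by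
    rw [hBf, Subgroup.card_map_of_injective (MulAut.conj f).injective, hB'c]
  -- elements of `B' ∩ Bf` commute with `f`
  have hcomf : ∀ x ∈ B', f * x * f⁻¹ ∈ B' → Commute f x := by
    intro x hx hx2
    obtain ⟨b, hbB, i, h3, h4⟩ := hfa x (hB'A hx)
    have h5 : x⁻¹ * (f * x * f⁻¹) ∈ B' := mul_mem (inv_mem hx) hx2
    have h6 : x⁻¹ * (f * x * f⁻¹) = v ^ (-i + -i) := by
      rw [h4, h3, zpow_add]
      group
    have h7 := hvinter _ h5 (by rw [h6]; exact ⟨_, rfl⟩)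
    have h8 : f * x * f⁻¹ = x := by
      rw [inv_mul_eq_one] at h7; exact h7.symm
    rw [mul_inv_eq_iff_eq_mul] at h8
    exact h8
  have hBBf : B' ≠ Bf := by
    intro hh
    have hle : B' ≤ B := by
      intro x hx
      have hx2 : f * x * f⁻¹ ∈ B' := by
        rw [← hmemBf, ← hh]; exact hx
      have hfx := hcomf x hx hx2
      obtain ⟨b, hbB, i, h3, h4⟩ := hfa x (hB'A hx)
      have h5 : f * x * f⁻¹ = x := by rw [mul_inv_eq_iff_eq_mul]; exact hfx
      rw [h4, h3] at h5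
      have h6 : v ^ (-i) = v ^ i := mul_left_cancel h5
      have h7 : (v ^ i) ^ 2 = 1 := by
        rw [pow_two]
        nth_rw 1 [← h6]
        rw [← zpow_add, neg_add_cancel, zpow_zero]
      have h8 : v ^ i = 1 := by
        apply eq_one_of_coprime_orderOf (m := p) (n := 2) _ h7
          ((Nat.coprime_primes hp.out Nat.prime_two).2 hp2)
        rw [← zpow_natCast, ← zpow_mul, mul_comm, zpow_mul, zpow_natCast, hvpow, one_zpow]
      rw [h3, h8, mul_one]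
      exact hbB
    have h3 : B' = B := Subgroup.eq_of_le_of_card_ge hle (by rw [hBcard, hB'c])
    apply hne'
    rw [h3]
    exact hBtriv
  obtain ⟨hsup, hinf⟩ := sup_of_ne hB'A hBfA hA'c hB'c hBfc hBBf
  obtain ⟨t, ht, s, hs, htd, hsd, htsd⟩ := exists_pair hp2 hd2 hA' hdA' D hB'A hne'
  -- conjugates by `f`
  have hconj : ∀ x ∈ Y ⊓ centralizer (B' : Set G), f * x * f⁻¹ ∈ Y ⊓ centralizer (Bf : Set G) := by
    intro x hx
    refine Subgroup.mem_inf.2 ⟨Norm.conj_mem (A := zpowers f) (by rw [zpowers_le]; exact hfY) (mem_zpowers f) hx.1, ?_⟩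
    rw [mem_centralizer_iff]
    intro y hy
    have hy' : f * y * f⁻¹ ∈ B' := (hmemBf y).1 hy
    have h3 := mem_centralizer_iff.1 hx.2 _ hy'
    -- y = f (f y f⁻¹) f⁻¹
    have h4 : y = f * (f * y * f⁻¹) * f⁻¹ := by
      rw [hfi]
      calc y = (f * f) * y * (f * f) := by rw [hff]; group
        _ = f * (f * y * f) * f := by group
    calc y * (f * x * f⁻¹) = f * (f * y * f⁻¹) * f⁻¹ * (f * x * f⁻¹) := by rw [← h4]
      _ = f * ((f * y * f⁻¹) * x) * f⁻¹ := by group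
      _ = f * (x * (f * y * f⁻¹)) * f⁻¹ := by rw [h3]
      _ = (f * x * f⁻¹) * (f * (f * y * f⁻¹) * f⁻¹) := by group
      _ = (f * x * f⁻¹) * y := by rw [← h4]
  have cr : ∀ {x y : G}, x ∈ Y ⊓ centralizer (B' : Set G) → y ∈ Y ⊓ centralizer (Bf : Set G) → Commute x y :=
    fun hx hy => cross hp2 hQ hA' hdA' D hB'A hBfA hsup hx hy
  have hYd : ∀ u ∈ Y, Commute d u := fun u hu => hQ.commute (D.YQ hu)
  have hdd : d * d = 1 := by rw [← pow_two]; exact hd2
  set x := t * (f * t * f⁻¹) with hx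
  set y := s * (f * s * f⁻¹) with hy
  have htf := hconj t ht
  have hsf := hconj s hs
  have hsqf : ∀ u ∈ Y ⊓ centralizer (B' : Set G), (u * (f * u * f⁻¹)) ^ 2 = 1 := by
    intro u hu
    have h3 : Commute u (f * u * f⁻¹) := cr hu (hconj u hu)
    rw [h3.mul_pow, conj_pow]
    have h4 := D.sq u hu.1
    have h5 : Commute (u ^ 2) f := comm_zp h4 hdf
    have h6 : f * u ^ 2 * f⁻¹ = u ^ 2 := by rw [mul_inv_eq_iff_eq_mul]; exact h5.eq.symm
    rw [h6]
    rcases (mem_zpowers_two hd2).1 h4 with h7 | h7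
    · rw [h7, one_mul]
    · rw [h7, hdd]
  have hfcom : ∀ u ∈ Y ⊓ centralizer (B' : Set G), Commute (u * (f * u * f⁻¹)) f := by
    intro u hu
    have h3 : Commute u (f * u * f⁻¹) := cr hu (hconj u hu)
    have h4 : f * (u * (f * u * f⁻¹)) * f⁻¹ = u * (f * u * f⁻¹) := by
      have h5 : f * (f * u * f⁻¹) * f⁻¹ = u := by
        rw [hfi]
        calc f * (f * u * f) * f = (f * f) * u * (f * f) := by group
          _ = u := by rw [hff]; group
      calc f * (u * (f * u * f⁻¹)) * f⁻¹ = (f * u * f⁻¹) * (f * (f * u * f⁻¹) * f⁻¹) := by group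
        _ = (f * u * f⁻¹) * u := by rw [h5]
        _ = u * (f * u * f⁻¹) := h3.eq.symm
    rw [mul_inv_eq_iff_eq_mul] at h4
    exact h4.symm
  have hx2 : x ^ 2 = 1 := hsqf t ht
  have hy2 : y ^ 2 = 1 := hsqf s hs
  have hxY : x ∈ Y := mul_mem ht.1 htf.1
  have hyY : y ∈ Y := mul_mem hs.1 hsf.1
  have hxyeq : x * y = (t * s) * (f * (t * s) * f⁻¹) := by
    rw [hx, hy]
    calc t * (f * t * f⁻¹) * (s * (f * s * f⁻¹)) = t * ((f * t * f⁻¹) * s) * (f * s * f⁻¹) := by group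
      _ = t * (s * (f * t * f⁻¹)) * (f * s * f⁻¹) := by rw [(cr hs htf).eq]
      _ = (t * s) * (f * (t * s) * f⁻¹) := by group
  have hyxeq : y * x = (s * t) * (f * (s * t) * f⁻¹) := by
    rw [hx, hy]
    calc s * (f * s * f⁻¹) * (t * (f * t * f⁻¹)) = s * ((f * s * f⁻¹) * t) * (f * t * f⁻¹) := by group
      _ = s * (t * (f * s * f⁻¹)) * (f * t * f⁻¹) := by rw [(cr ht hsf).eq]
      _ = (s * t) * (f * (s * t) * f⁻¹) := by group
  have hxyc : Commute x y := by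
    show x * y = y * x
    rw [hxyeq, hyxeq]
    have hc := D.com t ht.1 s hs.1
    have h3 : t * s = ⁅t, s⁆ * (s * t) := by rw [commutatorElement_def]; group
    have hcf : Commute ⁅t, s⁆ f := comm_zp hc hdf
    have hcst : Commute ⁅t, s⁆ (s * t) := comm_zp hc ((hYd s hs.1).mul_right (hYd t ht.1))
    have hcc : ⁅t, s⁆ * ⁅t, s⁆ = 1 := by
      rcases (mem_zpowers_two hd2).1 hc with h7 | h7
      · rw [h7, one_mul]
      · rw [h7, hdd]
    calc (t * s) * (f * (t * s) * f⁻¹) = ⁅t, s⁆ * (s * t) * (f * (⁅t, s⁆ * (s * t)) * f⁻¹) := by rw [← h3]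
      _ = ⁅t, s⁆ * (s * t) * ((f * ⁅t, s⁆) * (s * t) * f⁻¹) := by group
      _ = ⁅t, s⁆ * ((s * t) * ⁅t, s⁆) * (f * (s * t) * f⁻¹) := by rw [← hcf.eq]; group
      _ = (⁅t, s⁆ * ⁅t, s⁆) * (s * t) * (f * (s * t) * f⁻¹) := by rw [← hcst.eq]; group
      _ = (s * t) * (f * (s * t) * f⁻¹) := by rw [hcc, one_mul]
  have hxd : x ∉ zpowers d := prod_not_mem hdA' D hBfA hsup ht htd htf.2
  have hyd : y ∉ zpowers d := prod_not_mem hdA' D hBfA hsup hs hsd hsf.2
  have hxyd : x * y ∉ zpowers d := by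
    rw [hxyeq]
    exact prod_not_mem hdA' D hBfA hsup (mul_mem ht hs) htsd (hconj _ (mul_mem ht hs)).2
  obtain ⟨hF, hFc⟩ := card_pair hd2 hd1 hx2 (hYd x hxY) hxd
  have hdx : ∀ e ∈ zpowers d, Commute e x := fun e he => comm_zp he (hYd x hxY)
  have hdecomp : ∀ e ∈ zpowers d ⊔ zpowers x, ∃ e' ∈ zpowers d, ∃ i : ℤ, e' * x ^ i = e := by
    intro e he
    exact (mem_sup_zpowers (by
      rw [mem_centralizer_iff]
      intro w hw
      exact (hdx w hw).eq)).1 he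
  have hEy : ∀ e ∈ zpowers d ⊔ zpowers x, Commute e y := by
    intro e he
    obtain ⟨e', he', i, rfl⟩ := hdecomp e he
    exact (comm_zp he' (hYd y hyY)).mul_left (hxyc.zpow_left i)
  have hyE : y ∉ zpowers d ⊔ zpowers x := by
    intro hh
    rcases mem_add hx2 hdx hh with h3 | h3
    · exact hyd h3
    · rw [← hxyc.eq] at h3
      exact hxyd h3
  obtain ⟨hF', hF'c⟩ := card_add hF hy2 hEy hyE
  have hFQ : (zpowers d ⊔ zpowers x) ⊔ zpowers y ≤ Q := by
    rw [sup_le_iff, sup_le_iff, zpowers_le, zpowers_le, zpowers_le]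
    exact ⟨⟨hQ.mem_self, D.YQ hxY⟩, D.YQ hyY⟩
  have hFf : ∀ e ∈ (zpowers d ⊔ zpowers x) ⊔ zpowers y, Commute e f := by
    intro e he
    obtain ⟨e', he', i, rfl⟩ := (mem_sup_zpowers (by
      rw [mem_centralizer_iff]
      intro w hw
      exact (hEy w hw).eq)).1 he
    obtain ⟨e'', he'', j, rfl⟩ := hdecomp e' he'
    exact ((comm_zp he'' hdf).mul_left ((hfcom t ht).zpow_left j)).mul_left ((hfcom s hs).zpow_left i)
  obtain ⟨hF'', hF''c⟩ := card_add hF' hf2 hFf (fun hh => hfQ (hFQ hh))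
  -- everything commutes with `B' ⊓ Bf`
  have c1 : centralizer (B' : Set G) ≤ centralizer ((B' ⊓ Bf : Subgroup G) : Set G) :=
    centralizer_le (inf_le_left : B' ⊓ Bf ≤ B')
  have c2 : centralizer (Bf : Set G) ≤ centralizer ((B' ⊓ Bf : Subgroup G) : Set G) :=
    centralizer_le (inf_le_right : B' ⊓ Bf ≤ Bf)
  have hle : ((zpowers d ⊔ zpowers x) ⊔ zpowers y) ⊔ zpowers f ≤
      centralizer ((B' ⊓ Bf : Subgroup G) : Set G) := by
    rw [sup_le_iff, sup_le_iff, sup_le_iff, zpowers_le, zpowers_le, zpowers_le, zpowers_le]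
    refine ⟨⟨⟨c1 (centralizer_le hB'A hdA'), mul_mem (c1 ht.2) (c2 htf.2)⟩, mul_mem (c1 hs.2) (c2 hsf.2)⟩, ?_⟩
    rw [mem_centralizer_iff]
    rintro w ⟨hw1, hw2⟩
    exact (hcomf w hw1 ((hmemBf w).1 hw2)).eq.symm
  have hne2 : B' ⊓ Bf ≠ ⊥ := by
    intro hh
    rw [hh, Subgroup.card_bot] at hinf
    have := Nat.one_lt_pow (n := k + 1) (by omega) hp.out.one_lt
    omega
  have hfin := rank_le hp2 h hb 3 (B' ⊓ Bf) _ (ElemAb.of_le hA' (le_trans inf_le_left hB'A)) hne2 hF''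
    (by rw [hF''c, hF'c, hFc]; norm_num) hle
  have hfin2 : p ^ (k + 1) * p ^ 3 ≤ p ^ (k + 3) := le_trans (Nat.mul_le_mul_right _ hinf) hfin
  rw [← pow_add] at hfin2
  exact absurd hfin2 (not_le.2 (Nat.pow_lt_pow_right hp.out.one_lt (by omega)))

/-- the theorem of Klinger and Mason -/
theorem main [Finite G] [hp : Fact p.Prime] (hp2 : p ≠ 2) (h : LC p G) (h2 : LC 2 G) {T A : Subgroup G}
    (hT : IsPGroup 2 T) (hT1 : T ≠ ⊥) (hA : Cfsg.IsElementaryAbelian p A) (hAT : A ≤ normalizer (T : Set G)) :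
    Nat.card A ≤ p ^ 2 := by
  by_contra hcon
  -- the maximal rank
  let S : Set ℕ := {j | ∃ T A : Subgroup G, IsPGroup 2 T ∧ T ≠ ⊥ ∧ Cfsg.IsElementaryAbelian p A ∧
    A ≤ normalizer (T : Set G) ∧ Nat.card A = p ^ j}
  have hbdd : ∀ j ∈ S, j ≤ Nat.card G := by
    rintro j ⟨T, A, -, -, -, -, hc⟩
    calc j ≤ p ^ j := (Nat.lt_pow_self hp.out.one_lt).le
      _ = Nat.card A := hc.symm
      _ ≤ Nat.card G := Subgroup.card_le_card_group A
  obtain ⟨j₀, hj₀⟩ := IsPGroup.iff_card.1 (ElemAb.isPGroup hA)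
  have hne : S.Nonempty := ⟨j₀, T, A, hT, hT1, hA, hAT, hj₀⟩
  have hbdd' : BddAbove S := ⟨Nat.card G, hbdd⟩
  have hm := Nat.sSup_mem hne hbdd'
  set m := sSup S with hmdef
  have hmax : ∀ j ∈ S, j ≤ m := fun j hj => le_csSup hbdd' hj
  have hj3 : 3 ≤ j₀ := by
    by_contra hh
    apply hcon
    rw [hj₀]
    exact Nat.pow_le_pow_right hp.out.pos (by omega)
  have hm3 : 3 ≤ m := le_trans hj3 (hmax j₀ ⟨T, A, hT, hT1, hA, hAT, hj₀⟩)
  obtain ⟨k, hk⟩ : ∃ k, m = k + 3 := ⟨m - 3, by omega⟩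
  have hb : Bd p (k + 3) G := by
    intro d hd2 hd1 C hC hdC
    obtain ⟨j, hj⟩ := IsPGroup.iff_card.1 (ElemAb.isPGroup hC)
    rw [hj, ← hk]
    apply Nat.pow_le_pow_right hp.out.pos
    apply hmax
    refine ⟨zpowers d, C, isPGroup_zpowers_two hd2, fun hh => hd1 (zpowers_eq_bot.1 hh), hC, ?_, hj⟩
    intro c hc
    apply Subgroup.centralizer_le_normalizer
    rw [mem_centralizer_iff]
    rintro y ⟨i, rfl⟩
    have h3 : Commute d c := (mem_centralizer_iff.1 hdC c hc : c * d = d * c).symm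
    exact (h3.zpow_left i).eq
  obtain ⟨T', A', hT', hT'1, hA', hAT', hc'⟩ := hm
  rw [hk] at hc'
  obtain ⟨z, hz, hz1, C, hC, hzC, hCc⟩ := exists_start hp2 h (k := k + 1) hT' hT'1 hA' hAT' hc'
  exact contra hp2 h h2 hb hz hz1 hC hzC hCc

end H13.KM
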