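import Mathlib.GroupTheory.Sylow
import Cfsg.Prelude.Def_Local
import Cfsg.Agent.Lib.H37.PSolv
import Cfsg.Agent.Lib.H13.CoresQuot

set_option autoImplicit false

/-!
`IsPSolvable` and surjective homomorphisms.
-/

namespace H13.PSolvMap

open Subgroup

universe u v

variable {G : Type u} [Group G] {G' : Type v} [Group G'] {p : ℕ}

theorem of_surjective [hp : Fact p.Prime] (hG : Cfsg.IsPSolvable p G) (f : G →* G')
    (hs : Function.Surjective f) : Cfsg.IsPSolvable p G' := by
  obtain ⟨n, H, h0, hl, hm, hn, hf⟩ := hG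
  refine ⟨n, fun i => (H i).map f, ?_, ?_, ?_, ?_, ?_⟩
  · show (H 0).map _ = ⊥
    rw [h0]; exact Subgroup.map_bot _
  · show (H (Fin.last n)).map _ = ⊤
    rw [hl]; exact Subgroup.map_top_of_surjective _ hs
  · intro i j hij; exact Subgroup.map_mono (hm hij)
  · intro i; exact (hn i).map _ hs
  · intro i
    have hdvd : ((H i.castSucc).map f).relIndex ((H i.succ).map f) ∣
        (H i.castSucc).relIndex (H i.succ) := by
      haveI := hn i.castSucc
      haveI := hn i.succ
      rw [relIndex_map_map]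
      have h2 : H i.succ ⊔ f.ker = (H i.castSucc ⊔ f.ker) ⊔ H i.succ := by
        rw [sup_assoc, sup_comm f.ker, ← sup_assoc, sup_eq_right.mpr (hm i.castSucc_lt_succ.le)]
      rw [h2, relIndex_sup_left]
      exact relIndex_dvd_of_le_left _ le_sup_left
    rcases hf i with ⟨m, hm'⟩ | hc
    · left
      rw [hm'] at hdvd
      obtain ⟨k, _, hk⟩ := (Nat.dvd_prime_pow hp.out).mp hdvd
      exact ⟨k, hk⟩
    · right
      exact Nat.Coprime.coprime_dvd_left hdvd hc

theorem of_equiv [hp : Fact p.Prime] (hG : Cfsg.IsPSolvable p G) (e : G ≃* G') :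
    Cfsg.IsPSolvable p G' := of_surjective hG e.toMonoidHom e.surjective

theorem map [hp : Fact p.Prime] {H : Subgroup G} (hH : Cfsg.IsPSolvable p H) (f : G →* G') :
    Cfsg.IsPSolvable p (H.map f) :=
  of_surjective hH (f.subgroupMap H) (f.subgroupMap_surjective H)

theorem of_le [hp : Fact p.Prime] {H K : Subgroup G} (hK : Cfsg.IsPSolvable p K) (h : H ≤ K) :
    Cfsg.IsPSolvable p H :=
  of_equiv (H37.PSolv.subgroup hK (H.subgroupOf K)) (subgroupOfEquivOfLe h)

/-- Hall-Higman for `G / O_{p'}(G)`. -/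
theorem centralizer_pCore_quotient_le [Finite G] [hp : Fact p.Prime]
    (hG : Cfsg.IsPSolvable p G) :
    centralizer (Cfsg.pCore p (G ⧸ Cfsg.pPrimeCore p G) : Set (G ⧸ Cfsg.pPrimeCore p G)) ≤
      Cfsg.pCore p (G ⧸ Cfsg.pPrimeCore p G) :=
  H37.PSolv.centralizer_pCore_le (H37.PSolv.quotient hG _) CoresQuot.pPrimeCore_quotient

end H13.PSolvMap
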