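import Mathlib.GroupTheory.Sylow
import Cfsg.Prelude.Def_PLocal
import Cfsg.Agent.Lib.H13.Transport
import Cfsg.Agent.Lib.H13.Quad2

set_option autoImplicit false

/-!
The stable normal closure `W(S)` of `Ω₁(Z(S))`.
-/

namespace H13.StableClosure

open Subgroup
open scoped commutatorElement

universe u v

variable {S : Type u} [Group S] {p : ℕ}

theorem omegaCenterThompson_eq : Cfsg.omegaCenterThompson p S =
    Omega.omegaZ p (Cfsg.thompsonSubgroup p S) := rfl

theorem center_le_closure : Cfsg.omegaOne p (center S) ≤ Cfsg.stableNormalClosure p S :=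
  le_sInf fun _ hW => hW.1

theorem omegaZ_thompson_characteristic : (Cfsg.omegaCenterThompson p S).Characteristic := by
  rw [characteristic_iff_map_eq]
  intro e
  rw [omegaCenterThompson_eq, Omega.map_omegaZ_equiv, Thompson.map_equiv_thompson]

theorem omega_center_le [Finite S] :
    Cfsg.omegaOne p (center S) ≤ Cfsg.omegaCenterThompson p S := by
  intro x hx
  have hc : center S ≤ centralizer (center S : Set S) := by
    intro y hy
    rw [mem_centralizer_iff]
    intro z _
    exact (mem_center_iff.1 hy z)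
  obtain ⟨hxc, hxp⟩ := (Omega.mem_omegaOne hc).1 hx
  have h1 : x ∈ centralizer (Cfsg.thompsonSubgroup p S : Set S) := by
    rw [mem_centralizer_iff]
    intro z _
    exact (mem_center_iff.1 hxc z)
  exact Omega.mem_omegaOne_of ⟨Thompson.mem_thompson_of_centralizes h1 hxp, h1⟩ hxp

/-- A characteristic subgroup of `J(S)`-type: the image of `Ω₁(Z(J(S)))` is normal in the target
of a stable embedding. -/
theorem map_omegaCenterThompson_normal {H : Type u} [Group H] {τ : S →* H}
    (hτ : Cfsg.IsStableEmbedding p τ) : ((Cfsg.omegaCenterThompson p S).map τ).Normal := by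
  have hn := hτ.2.2.2.2.1
  have hinj := hτ.1
  have h1 : (Cfsg.omegaCenterThompson p S).map τ =
      Omega.omegaZ p ((Cfsg.thompsonSubgroup p S).map τ) := by
    rw [omegaCenterThompson_eq, Transport.map_omegaZ]
    rw [(MonoidHom.ker_eq_bot_iff τ).2 hinj, inf_bot_eq]
  rw [h1]
  constructor
  intro x hx g
  have h2 := Omega.map_omegaZ_equiv (p := p) (MulAut.conj g) ((Cfsg.thompsonSubgroup p S).map τ)
  have h3 : ((Cfsg.thompsonSubgroup p S).map τ).map (MulAut.conj g).toMonoidHom =
      (Cfsg.thompsonSubgroup p S).map τ := by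
    apply Norm.map_conj_le_of_mem_normalizer
    rw [normalizer_eq_top]
    trivial
  rw [h3] at h2
  rw [← h2]
  exact ⟨x, hx, rfl⟩

theorem closure_le [Finite S] : Cfsg.stableNormalClosure p S ≤ Cfsg.omegaCenterThompson p S :=
  sInf_le ⟨omega_center_le, fun _ _ _ hτ => map_omegaCenterThompson_normal hτ⟩

/-- The image of `W(S)` under a stable embedding is normal. -/
theorem map_closure_normal [Finite S] {H : Type u} [Group H] {τ : S →* H}
    (hτ : Cfsg.IsStableEmbedding p τ) : ((Cfsg.stableNormalClosure p S).map τ).Normal := by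
  constructor
  rintro _ ⟨w, hw, rfl⟩ h
  have hw' : ∀ W : Subgroup S, (Cfsg.omegaOne p (center S) ≤ W ∧
      ∀ (H : Type u) [Group H] (τ : S →* H), Cfsg.IsStableEmbedding p τ → (W.map τ).Normal) →
      w ∈ W := by
    intro W hW
    exact (mem_sInf.1 hw) W hW
  obtain ⟨v, hv, hveq⟩ := (map_omegaCenterThompson_normal hτ).conj_mem (τ w)
    ⟨w, hw' _ ⟨omega_center_le, fun _ _ _ hτ => map_omegaCenterThompson_normal hτ⟩, rfl⟩ h
  refine ⟨v, ?_, hveq⟩
  rw [SetLike.mem_coe]
  refine mem_sInf.2 fun W hW => ?_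
  obtain ⟨v', hv', hveq'⟩ := (hW.2 H τ hτ).conj_mem (τ w) ⟨w, hw' W hW, rfl⟩ h
  have : v' = v := hτ.1 (hveq'.trans hveq.symm)
  rw [← this]
  exact hv'

theorem isStableEmbedding_comp {S' : Type u} [Group S'] (η : S' ≃* S) {H : Type u} [Group H]
    {τ : S →* H} (hτ : Cfsg.IsStableEmbedding p τ) :
    Cfsg.IsStableEmbedding p (τ.comp η.toMonoidHom) := by
  obtain ⟨h1, h2, ⟨P, hP⟩, h4, h5, h6⟩ := hτ
  have hJ : (Cfsg.thompsonSubgroup p S').map (τ.comp η.toMonoidHom) =
      (Cfsg.thompsonSubgroup p S).map τ := by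
    rw [← Subgroup.map_map, Thompson.map_equiv_thompson]
  have hO : (Cfsg.omegaCenterThompson p S').map (τ.comp η.toMonoidHom) =
      (Cfsg.omegaCenterThompson p S).map τ := by
    rw [← Subgroup.map_map, omegaCenterThompson_eq, Omega.map_omegaZ_equiv,
      Thompson.map_equiv_thompson]
    rfl
  refine ⟨h1.comp η.injective, h2, ⟨P, ?_⟩, h4, ?_, ?_⟩
  · rw [hP, MonoidHom.range_eq_map, MonoidHom.range_eq_map, ← Subgroup.map_map]
    congr 1
    exact (Subgroup.map_top_of_surjective η.toMonoidHom η.surjective).symm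
  · rw [hJ]; exact h5
  · intro V hV hle
    rw [hO] at hle
    exact h6 V hle

theorem map_closure_le {S' : Type u} [Group S'] (η : S ≃* S') :
    (Cfsg.stableNormalClosure p S).map η.toMonoidHom ≤ Cfsg.stableNormalClosure p S' := by
  refine le_sInf fun W' hW' => ?_
  rw [map_le_iff_le_comap]
  refine sInf_le ⟨?_, fun H _ τ hτ => ?_⟩
  · rw [← map_le_iff_le_comap, Transport.map_omegaOne_center_equiv]
    exact hW'.1
  · have h1 := hW'.2 H (τ.comp η.symm.toMonoidHom) (isStableEmbedding_comp η.symm hτ)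
    have h2 : (W'.comap η.toMonoidHom).map τ = W'.map (τ.comp η.symm.toMonoidHom) := by
      rw [← Subgroup.map_map]
      congr 1
      exact (Subgroup.map_equiv_eq_comap_symm' η.symm W').symm
    rw [h2]
    exact h1

theorem map_closure {S' : Type u} [Group S'] (η : S ≃* S') :
    (Cfsg.stableNormalClosure p S).map η.toMonoidHom = Cfsg.stableNormalClosure p S' :=
  Cores.map_equiv_eq η (map_closure_le η) (map_closure_le η.symm)

instance closure_characteristic : (Cfsg.stableNormalClosure p S).Characteristic := by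
  rw [characteristic_iff_map_eq]
  exact fun e => map_closure e

theorem closure_ne_bot [Finite S] [Fact p.Prime] (hS : IsPGroup p S) [Nontrivial S] :
    Cfsg.stableNormalClosure p S ≠ ⊥ := by
  intro h
  have h1 := center_le_closure (S := S) (p := p)
  rw [h, le_bot_iff] at h1
  have h2 : Nontrivial (center S) := hS.center_nontrivial
  obtain ⟨n, hn, hc⟩ := (hS.to_subgroup (center S)).nontrivial_iff_card.1 h2
  obtain ⟨x, hx⟩ := exists_prime_orderOf_dvd_card' (G := center S) p (by
    rw [hc]; exact dvd_pow_self p hn.ne')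
  have h3 : (x : S) ∈ Cfsg.omegaOne p (center S) := Omega.mem_omegaOne_of x.2 (by
    have := pow_orderOf_eq_one x
    rw [hx] at this
    exact congrArg Subtype.val this)
  rw [h1, mem_bot] at h3
  have h4 : x = 1 := Subtype.ext h3
  rw [h4, orderOf_one] at hx
  exact (Fact.out : p.Prime).one_lt.ne hx

/-- If `x` acts quadratically on `W(S)` then `x` centralizes `W(S)`. -/
theorem quadratic_imp_centralizes [Finite S] [Fact p.Prime] {x : S}
    (hq : ⁅⁅Cfsg.stableNormalClosure p S, zpowers x⁆, zpowers x⁆ = ⊥) :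
    x ∈ centralizer (Cfsg.stableNormalClosure p S : Set S) := by
  set W := Cfsg.stableNormalClosure p S with hW
  set Q : Set S := {y | ∀ v ∈ W, Commute y ⁅v, y⁆} with hQ
  have hxQ : x ∈ Q := Quad2.quad_iff.1 hq
  have hle : W ≤ W ⊓ centralizer Q := by
    refine sInf_le ⟨le_inf center_le_closure ?_, fun H _ τ hτ => ?_⟩
    · refine (Omega.omegaOne_le _).trans ?_
      exact center_le_centralizer Q
    · have hfin : Finite H := hτ.2.1
      have hVn : (W.map τ).Normal := map_closure_normal hτ
      have hst : Cfsg.IsPStableOn p (W.map τ) :=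
        hτ.2.2.2.2.2 (W.map τ) (Subgroup.map_mono closure_le)
      obtain ⟨P, hP⟩ := hτ.2.2.1
      have key : ∀ y ∈ Q, ∀ h : H, ∃ s ∈ Q, ∃ c ∈ centralizer ((W.map τ : Subgroup H) : Set H),
          h⁻¹ * τ y * h = τ s * c := by
        intro y hy h
        have hqy : ∀ v ∈ W.map τ, Commute (τ y) ⁅v, τ y⁆ := by
          rintro _ ⟨w, hw, rfl⟩
          rw [← map_commutatorElement]
          exact (hy w hw).map τ
        have h1 := hst (τ y) (Quad2.quad_iff.2 hqy)
        have h2 : h⁻¹ * τ y * h ∈ (Cfsg.pCore p (H ⧸ centralizer ((W.map τ : Subgroup H) : Set H))).comap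
            (QuotientGroup.mk' (centralizer ((W.map τ : Subgroup H) : Set H))) := by
          have := Subgroup.Normal.conj_mem (inferInstance : ((Cfsg.pCore p
            (H ⧸ centralizer ((W.map τ : Subgroup H) : Set H))).comap
            (QuotientGroup.mk' (centralizer ((W.map τ : Subgroup H) : Set H)))).Normal) (τ y) h1 h⁻¹
          simpa using this
        have h3 := Quot.comap_pCore_le_sylow_sup _ P h2
        rw [mem_sup_of_normal_right] at h3
        obtain ⟨z, hz, c, hc, hzc⟩ := h3
        rw [hP] at hz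
        obtain ⟨s, rfl⟩ := hz
        refine ⟨s, ?_, c, hc, hzc.symm⟩
        -- `s` is quadratic on `W`
        intro w hw
        have hnorm : ∀ g : H, g ∈ normalizer ((W.map τ : Subgroup H) : Set H) := fun g => by
          rw [normalizer_eq_top]; trivial
        have h4 := Quad2.quad_mul_centralizer (V := W.map τ) (hnorm (h⁻¹ * τ y * h))
          (inv_mem hc) (by
            have := Quad2.quad_conj (g := h⁻¹) (hnorm h⁻¹) hqy
            simpa using this) (τ w) ⟨w, hw, rfl⟩
        have h5 : h⁻¹ * τ y * h * c⁻¹ = τ s := by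
          rw [← hzc]; group
        rw [h5, ← map_commutatorElement] at h4
        have h6 : τ (s * ⁅w, s⁆) = τ (⁅w, s⁆ * s) := by
          rw [map_mul, map_mul]; exact h4
        exact hτ.1 h6
      constructor
      rintro _ ⟨w, hw, rfl⟩ h
      obtain ⟨w', hw', hww'⟩ := hVn.conj_mem (τ w) ⟨w, hw.1, rfl⟩ h
      refine ⟨w', mem_inf.2 ⟨hw', ?_⟩, hww'⟩
      rw [mem_centralizer_iff]
      intro y hy
      apply hτ.1
      rw [map_mul, map_mul, hww']
      obtain ⟨s, hs, c, hc, hsc⟩ := key y hy h
      have h7 : τ s * τ w = τ w * τ s := by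
        rw [← map_mul, ← map_mul, mem_centralizer_iff.1 hw.2 s hs]
      have h8 : c * τ w = τ w * c := (mem_centralizer_iff.1 hc (τ w) ⟨w, hw.1, rfl⟩).symm
      have h9 : h⁻¹ * τ y * h * τ w = τ w * (h⁻¹ * τ y * h) := by
        rw [hsc, mul_assoc, h8, ← mul_assoc, h7, mul_assoc]
      calc τ y * (h * τ w * h⁻¹) = h * (h⁻¹ * τ y * h * τ w) * h⁻¹ := by group
        _ = h * (τ w * (h⁻¹ * τ y * h)) * h⁻¹ := by rw [h9]
        _ = h * τ w * h⁻¹ * τ y := by group
  rw [mem_centralizer_iff]
  intro w hw
  exact (mem_centralizer_iff.1 (hle hw).2 x hxQ).symm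

end H13.StableClosure
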