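import Mathlib.GroupTheory.Sylow
import Cfsg.Prelude.Def_PLocal
import Cfsg.Agent.Lib.H13.StableClosure
import Cfsg.Agent.Lib.H13.Coprime
import Cfsg.Agent.Lib.H13.SylowN
import Cfsg.Agent.Lib.H13.Quad2
import Cfsg.Agent.Lib.H13.Replace
import Cfsg.Agent.S0607
import Cfsg.Agent.Lib.H59.CharP

set_option autoImplicit false

/-!
Normality of the stable normal closure in `p`-stable groups of characteristic `p`.
-/

namespace H13.StableNormal

open Subgroup
open scoped commutatorElement

universe u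

variable {G : Type u} [Group G] {p : ℕ}

/-- The kernel of the action on `O / Φ(O)` is a `p`-group. -/
theorem isPGroup_sectionKernel [Finite G] [hp : Fact p.Prime] {O : Subgroup G} [O.Normal]
    (hO : IsPGroup p O) (hc : centralizer (O : Set G) ≤ O) {D : Subgroup G}
    (hD : ∀ k ∈ O, ∀ y ∈ D, ⁅k, y⁆ ∈ (frattini O).map O.subtype) : IsPGroup p D := by
  have hdvd : ∀ r : ℕ, r.Prime → r ∣ Nat.card D → r = p := by
    intro r hr hrD
    by_contra hrp
    have hr' : Fact r.Prime := ⟨hr⟩
    obtain ⟨⟨y, hyD⟩, hy⟩ := exists_prime_orderOf_dvd_card' r hrD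
    have hyo : orderOf y = r := by rw [← hy]; exact (Subgroup.orderOf_mk y hyD).symm
    have hYr : IsPGroup r (zpowers y) := IsPGroup.of_card (n := 1)
      (by rw [Nat.card_zpowers, hyo, pow_one])
    have hOr : (Nat.card O).Coprime r := by
      obtain ⟨n, hn⟩ := IsPGroup.iff_card.1 hO
      rw [hn]
      exact Nat.Coprime.pow_left n ((Nat.coprime_primes hp.out hr).2 (Ne.symm hrp))
    have hYN : zpowers y ≤ normalizer (O : Set G) := by
      rw [normalizer_eq_top]; exact le_top
    have h1 := Coprime.comm_sup_centralizer hYr hOr hYN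
    have hΦN : ((frattini O).map O.subtype).Normal := inferInstance
    have h2 : ⁅O, zpowers y⁆ ≤ (frattini O).map O.subtype := by
      have h3 : zpowers y ≤ Quad.actTriv O ((frattini O).map O.subtype) := by
        rw [zpowers_le]
        refine ⟨hYN (mem_zpowers y), ?_, fun k hk => hD k hk y hyD⟩
        rw [normalizer_eq_top]
        exact mem_top _
      exact (commutator_mono le_rfl h3).trans (Quad.commutator_actTriv_le _ _)
    have h3 : (O ⊓ centralizer ((zpowers y : Subgroup G) : Set G)).subgroupOf O = ⊤ := by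
      apply frattini_nongenerating
      rw [eq_top_iff]
      intro k _
      have h4 : (k : G) ∈ ⁅O, zpowers y⁆ ⊔ (O ⊓ centralizer ((zpowers y : Subgroup G) : Set G)) := by
        rw [h1]; exact k.2
      have h5 : (k : G) ∈ (frattini O).map O.subtype ⊔
          (O ⊓ centralizer ((zpowers y : Subgroup G) : Set G)) := sup_le_sup_right h2 _ h4
      rw [mem_sup_of_normal_left] at h5
      obtain ⟨a, ⟨a', ha', rfl⟩, b, hb, hab⟩ := h5
      have h6 : k = a' * ⟨b, (mem_inf.1 hb).1⟩ := Subtype.ext hab.symm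
      rw [h6, sup_comm]
      exact mul_mem (le_sup_left (a := frattini O) ha')
        (le_sup_right (a := frattini O) (b := (O ⊓ centralizer ((zpowers y : Subgroup G) :
          Set G)).subgroupOf O) (mem_subgroupOf.2 hb))
    have h4 : y ∈ centralizer (O : Set G) := by
      rw [mem_centralizer_iff]
      intro k hk
      have h5 : (⟨k, hk⟩ : O) ∈ (O ⊓ centralizer ((zpowers y : Subgroup G) :
          Set G)).subgroupOf O := by rw [h3]; exact mem_top _
      exact (mem_centralizer_iff.1 (mem_inf.1 (mem_subgroupOf.1 h5)).2 y (mem_zpowers y)).symm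
    have h5 := hc h4
    obtain ⟨n, hn⟩ := IsPGroup.iff_orderOf.1 hO ⟨y, h5⟩
    rw [Subgroup.orderOf_mk, hyo] at hn
    apply hrp
    have h6 : r ∣ p ^ n := by rw [← hn]
    exact (Nat.prime_dvd_prime_iff_eq hr hp.out).1 (hr.dvd_of_dvd_pow h6)
  rw [IsPGroup.iff_card]
  exact ⟨_, Nat.eq_prime_pow_of_unique_prime_dvd Nat.card_pos.ne' (fun {d} hd hdv => hdvd d hd hdv)⟩

theorem mem_sectionKernel {K N : Subgroup G} [N.Normal] {y : G} :
    y ∈ Cfsg.sectionKernel K N ↔ ∀ k ∈ K, ⁅k, y⁆ ∈ N := by
  unfold Cfsg.sectionKernel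
  rw [mem_comap, mem_centralizer_iff]
  constructor
  · intro h k hk
    have h1 := h _ ⟨k, hk, rfl⟩
    rw [← QuotientGroup.ker_mk' N, MonoidHom.mem_ker, map_commutatorElement,
      commutatorElement_eq_one_iff_mul_comm]
    exact h1
  · rintro h _ ⟨k, hk, rfl⟩
    have h1 := h k hk
    rw [← QuotientGroup.ker_mk' N, MonoidHom.mem_ker, map_commutatorElement,
      commutatorElement_eq_one_iff_mul_comm] at h1
    exact h1

theorem mem_pCore_of_quadratic [Finite G] [hp : Fact p.Prime]
    (hst : Cfsg.IsPStableOnSection p (Cfsg.pCore p G)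
      ((frattini ↥(Cfsg.pCore p G)).map (Cfsg.pCore p G).subtype))
    (hc : centralizer (Cfsg.pCore p G : Set G) ≤ Cfsg.pCore p G) {x : G}
    (hx : ⁅⁅Cfsg.pCore p G, zpowers x⁆, zpowers x⁆ = ⊥) : x ∈ Cfsg.pCore p G := by
  obtain ⟨D, hD, hKD, ⟨k, hk⟩, hxD⟩ := hst x (by rw [hx]; exact bot_le)
  have hK : IsPGroup p (Cfsg.sectionKernel (Cfsg.pCore p G)
      ((frattini ↥(Cfsg.pCore p G)).map (Cfsg.pCore p G).subtype)) := by
    apply isPGroup_sectionKernel (O := Cfsg.pCore p G) Cores.isPGroup_pCore hc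
    intro k hk y hy
    exact mem_sectionKernel.1 hy k hk
  have hDp : IsPGroup p D := by
    obtain ⟨n, hn⟩ := IsPGroup.iff_card.1 hK
    apply IsPGroup.of_card (n := n + k)
    rw [Replace.card_eq_mul_relIndex hKD, hn, hk, pow_add]
  exact Cores.le_pCore hD hDp hxD

variable (p) in
/-- `W(S)` inside `G`. -/
abbrev WS (S : Subgroup G) : Subgroup G := (Cfsg.stableNormalClosure p S).map S.subtype

theorem ws_le (S : Subgroup G) : WS p S ≤ S := map_subtype_le _

theorem le_normalizer_ws (S : Subgroup G) : S ≤ normalizer (WS p S : Set G) :=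
  le_normalizer.trans (Cores.normalizer_le_normalizer_map S _)

theorem isElementaryAbelian_ws [Finite G] (S : Subgroup G) :
    Cfsg.IsElementaryAbelian p (WS p S) := by
  apply ElemAb.map
  refine ElemAb.of_le ?_ StableClosure.closure_le
  rw [StableClosure.omegaCenterThompson_eq]
  exact Omega.isElementaryAbelian_omegaZ _

theorem centralizes_ws [Finite G] [hp : Fact p.Prime] {S : Subgroup G} {s : G} (hs : s ∈ S)
    (hq : ⁅⁅WS p S, zpowers s⁆, zpowers s⁆ = ⊥) : s ∈ centralizer (WS p S : Set G) := by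
  have h1 : ⁅⁅Cfsg.stableNormalClosure p S, zpowers (⟨s, hs⟩ : S)⁆, zpowers (⟨s, hs⟩ : S)⁆ = ⊥ := by
    apply (Subgroup.map_eq_bot_iff_of_injective _ S.subtype_injective).1
    rw [map_commutator, map_commutator, MonoidHom.map_zpowers]
    exact hq
  have h2 := StableClosure.quadratic_imp_centralizes h1
  rw [mem_centralizer_iff] at h2 ⊢
  rintro _ ⟨w, hw, rfl⟩
  exact congrArg Subtype.val (h2 w hw)

/-- The inclusion of `S` into `N_G(J(S))` is a stable embedding. -/
theorem isStableEmbedding [Finite G] [hp : Fact p.Prime] (hst : Cfsg.IsActionPStable p G)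
    (hc : centralizer (Cfsg.pCore p G : Set G) ≤ Cfsg.pCore p G) (S : Sylow p G)
    (hSN : (S : Subgroup G) ≤ normalizer (Cfsg.thompsonSubgroupOf p (S : Subgroup G) : Set G)) :
    Cfsg.IsStableEmbedding p (inclusion hSN) := by
  refine ⟨inclusion_injective hSN, inferInstance, ?_, ?_, ?_, ?_⟩
  · refine ⟨S.subtype hSN, ?_⟩
    rw [inclusion_range]
    rfl
  · have hJp : IsPGroup p (Cfsg.thompsonSubgroupOf p (S : Subgroup G)) :=
      S.isPGroup'.to_le (SylowN.thompsonOf_le _)
    exact ((H59.CharP.charP_of_centralizer_pCore_le hc).normalizer _ hJp).centralizer_pCore_le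
  · constructor
    rintro _ ⟨x, hx, rfl⟩ g
    have h1 : (g : G) * x * (g : G)⁻¹ ∈ Cfsg.thompsonSubgroupOf p (S : Subgroup G) :=
      (mem_normalizer_iff.1 g.2 _).1 ⟨x, hx, rfl⟩
    obtain ⟨y, hy, hyx⟩ := h1
    exact ⟨y, hy, Subtype.ext hyx⟩
  · intro V' hV' hle
    apply hst.2.2 S V'
    refine (Subgroup.map_mono hle).trans ?_
    rw [Subgroup.map_map]
    exact le_rfl

theorem quad_of_le {V W : Subgroup G} {s : G} (hWV : W ≤ V)
    (h : ∀ v ∈ V, Commute s ⁅v, s⁆) : ⁅⁅W, zpowers s⁆, zpowers s⁆ = ⊥ := by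
  rw [eq_bot_iff, ← Quad2.quad_iff.2 h]
  exact commutator_mono (commutator_mono hWV le_rfl) le_rfl

theorem main [Finite G] [hp : Fact p.Prime] (hst : Cfsg.IsActionPStable p G)
    (hc : centralizer (Cfsg.pCore p G : Set G) ≤ Cfsg.pCore p G) (S : Sylow p G) :
    (WS p (S : Subgroup G)).Normal := by
  obtain ⟨hst1, hst2, hst3⟩ := hst
  set W := WS p (S : Subgroup G) with hW
  have hWe : Cfsg.IsElementaryAbelian p W := isElementaryAbelian_ws _
  have hWS : W ≤ S := ws_le _
  have hSW : (S : Subgroup G) ≤ normalizer (W : Set G) := le_normalizer_ws _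
  have hOS : Cfsg.pCore p G ≤ (S : Subgroup G) := Cores.pCore_le_sylow S
  have hOn : (Cfsg.pCore p G).Normal := inferInstance
  -- step 1
  have hWO : W ≤ Cfsg.pCore p G := by
    intro x hx
    apply mem_pCore_of_quadratic hst2 hc
    rw [eq_bot_iff, ← commutator_eq_bot_iff_le_centralizer.2 (ElemAb.le_centralizer hWe)]
    have h1 : zpowers x ≤ W := zpowers_le.2 hx
    refine commutator_mono ?_ h1
    refine (commutator_mono le_rfl h1).trans ?_
    exact (commutator_comm_le _ _).trans
      (le_normalizer_iff_commutator_le_left.1 (hOS.trans hSW))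
  -- step 2
  have hconj : ∀ g : G, ∀ x ∈ W, g * x * g⁻¹ ∈ centralizer (W : Set G) := by
    intro g x hx
    have hgO : g * x * g⁻¹ ∈ Cfsg.pCore p G := hOn.conj_mem x (hWO hx) g
    apply centralizes_ws (hOS hgO)
    rw [eq_bot_iff]
    -- the conjugate of `W`
    set W' := W.map (MulAut.conj g).toMonoidHom with hW'
    have hW'e : Cfsg.IsElementaryAbelian p W' := ElemAb.map hWe _
    have hW'O : W' ≤ Cfsg.pCore p G := by
      rintro _ ⟨y, hy, rfl⟩
      exact hOn.conj_mem y (hWO hy) g
    have hOW' : Cfsg.pCore p G ≤ normalizer (W' : Set G) := by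
      intro y hy
      have key : ∀ y ∈ Cfsg.pCore p G, ∀ w ∈ W', y * w * y⁻¹ ∈ W' := by
        rintro y hy _ ⟨w, hw, rfl⟩
        have hy' : g⁻¹ * y * g ∈ Cfsg.pCore p G := by
          have := hOn.conj_mem y hy g⁻¹
          rwa [inv_inv] at this
        refine ⟨(g⁻¹ * y * g) * w * (g⁻¹ * y * g)⁻¹, Norm.conj_mem (hOS.trans hSW) hy' hw, ?_⟩
        change g * ((g⁻¹ * y * g) * w * (g⁻¹ * y * g)⁻¹) * g⁻¹ = y * (g * w * g⁻¹) * y⁻¹
        group
      apply Norm.mem_normalizer_of (key y hy)
      intro w hw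
      have := key y⁻¹ (inv_mem hy) w hw
      rwa [inv_inv] at this
    have hzW' : zpowers (g * x * g⁻¹) ≤ W' := zpowers_le.2 ⟨x, hx, rfl⟩
    rw [← commutator_eq_bot_iff_le_centralizer.2 (ElemAb.le_centralizer hW'e)]
    refine commutator_mono ?_ hzW'
    refine (commutator_mono hWO hzW').trans ?_
    rw [commutator_comm]
    exact le_normalizer_iff_commutator_le_left.1 hOW'
  -- the normal closure
  set V := normalClosure (W : Set G) with hV
  have hVn : V.Normal := normalClosure_normal
  have hWV : W ≤ V := le_normalClosure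
  have hVO : V ≤ Cfsg.pCore p G := normalClosure_le_normal hWO
  have hgen : ∀ a b : G, a ∈ Group.conjugatesOfSet (W : Set G) →
      b ∈ Group.conjugatesOfSet (W : Set G) → a * b = b * a := by
    intro a b ha hb
    rw [Group.mem_conjugatesOfSet_iff] at ha hb
    obtain ⟨w, hw, hwa⟩ := ha
    obtain ⟨v, hv, hvb⟩ := hb
    obtain ⟨g, rfl⟩ := isConj_iff.1 hwa
    obtain ⟨h, rfl⟩ := isConj_iff.1 hvb
    have h1 := mem_centralizer_iff.1 (hconj (h⁻¹ * g) w hw) v hv
    calc g * w * g⁻¹ * (h * v * h⁻¹) = h * (((h⁻¹ * g) * w * (h⁻¹ * g)⁻¹) * v) * h⁻¹ := by group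
      _ = h * (v * ((h⁻¹ * g) * w * (h⁻¹ * g)⁻¹)) * h⁻¹ := by rw [h1]
      _ = h * v * h⁻¹ * (g * w * g⁻¹) := by group
  have hVe : Cfsg.IsElementaryAbelian p V := by
    apply ElemAb.closure (fun a ha b hb => hgen a b ha hb)
    intro a ha
    rw [Group.mem_conjugatesOfSet_iff] at ha
    obtain ⟨w, hw, hwa⟩ := ha
    obtain ⟨g, rfl⟩ := isConj_iff.1 hwa
    rw [conj_pow, hWe.2 w hw]
    group
  -- step 3
  have key : ∀ a : G, (∀ v ∈ V, Commute a ⁅v, a⁆) → a ∈ centralizer (V : Set G) := by
    intro a ha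
    have h1 := hst1 V hVe a (Quad2.quad_iff.2 ha)
    have hC : ∀ g : G, g⁻¹ * a * g ∈ centralizer (W : Set G) := by
      intro g
      -- conjugate
      have h2 : (QuotientGroup.mk (g⁻¹ * a * g) : G ⧸ centralizer (V : Set G)) ∈
          Cfsg.pCore p (G ⧸ centralizer (V : Set G)) := by
        have hn : (Cfsg.pCore p (G ⧸ centralizer (V : Set G))).Normal := inferInstance
        have h3 := hn.conj_mem _ h1 (QuotientGroup.mk g⁻¹)
        have h4 : (QuotientGroup.mk g⁻¹ : G ⧸ centralizer (V : Set G)) * QuotientGroup.mk a *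
            (QuotientGroup.mk g⁻¹)⁻¹ = QuotientGroup.mk (g⁻¹ * a * g) := by
          rw [← QuotientGroup.mk_inv, inv_inv, ← QuotientGroup.mk_mul, ← QuotientGroup.mk_mul]
        rwa [h4] at h3
      let S' : Sylow p (G ⧸ centralizer (V : Set G)) :=
        S.mapSurjective (QuotientGroup.mk'_surjective (centralizer (V : Set G)))
      have h3 : (QuotientGroup.mk (g⁻¹ * a * g) : G ⧸ centralizer (V : Set G)) ∈
        (S : Subgroup G).map (QuotientGroup.mk' (centralizer (V : Set G))) :=
        Cores.pCore_le_sylow S' h2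
      obtain ⟨s, hs, hst⟩ := h3
      have h4 : (g⁻¹ * a * g)⁻¹ * s ∈ centralizer (V : Set G) := QuotientGroup.eq.1 hst.symm
      have hgV : g⁻¹ ∈ normalizer (V : Set G) := by rw [normalizer_eq_top]; exact mem_top _
      have h5 := Quad2.quad_conj hgV ha
      rw [inv_inv] at h5
      have haV : g⁻¹ * a * g ∈ normalizer (V : Set G) := by rw [normalizer_eq_top]; exact mem_top _
      have h6 := Quad2.quad_mul_centralizer haV h4 h5
      rw [mul_inv_cancel_left] at h6
      have h7 := centralizes_ws hs (quad_of_le hWV h6)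
      have h8 : g⁻¹ * a * g = s * ((g⁻¹ * a * g)⁻¹ * s)⁻¹ := by group
      rw [h8]
      exact mul_mem h7 (inv_mem (centralizer_le (SetLike.coe_subset_coe.2 hWV) h4))
    rw [mem_centralizer_iff]
    have h2 : V ≤ centralizer {a} := by
      rw [hV]
      apply (Subgroup.closure_le _).2
      intro x hx
      rw [Group.mem_conjugatesOfSet_iff] at hx
      obtain ⟨w, hw, hwx⟩ := hx
      obtain ⟨g, rfl⟩ := isConj_iff.1 hwx
      rw [SetLike.mem_coe, mem_centralizer_iff]
      intro y hy
      rw [Set.mem_singleton_iff.1 hy]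
      have h3 := mem_centralizer_iff.1 (hC g) w hw
      calc a * (g * w * g⁻¹) = g * ((g⁻¹ * a * g) * w) * g⁻¹ := by group
        _ = g * (w * (g⁻¹ * a * g)) * g⁻¹ := by rw [h3]
        _ = g * w * g⁻¹ * a := by group
    intro v hv
    exact (mem_centralizer_iff.1 (h2 hv) a rfl).symm
  have hVS : V ≤ (S : Subgroup G) := hVO.trans hOS
  have hJ : Cfsg.thompsonSubgroupOf p (S : Subgroup G) ≤ centralizer (V : Set G) := by
    unfold Cfsg.thompsonSubgroupOf Cfsg.thompsonSubgroup
    rw [Subgroup.map_le_iff_le_comap, sSup_le_iff]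
    intro A hA
    rw [← Subgroup.map_le_iff_le_comap]
    by_contra hcon
    set V' := V.subgroupOf (S : Subgroup G) with hV'
    have hV'map : V'.map (S : Subgroup G).subtype = V := by
      rw [hV', subgroupOf_map_subtype, inf_eq_left.2 hVS]
    have hV'n : V'.Normal := inferInstance
    obtain ⟨h1, h2, h3⟩ := Cfsg.Agent.S0607.result V' (ElemAb.subgroupOf hVe _) A hA
    have h4 : ⁅V', A⁆ ≠ ⊥ := by
      intro h4
      apply hcon
      have h5 := congrArg (Subgroup.map (S : Subgroup G).subtype) h4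
      rw [map_commutator, Subgroup.map_bot, hV'map, commutator_comm,
        commutator_eq_bot_iff_le_centralizer] at h5
      exact h5
    have h5 := h3 h4
    apply h5
    set B := ⁅V', A⁆ ⊔ (A ⊓ centralizer ((⁅V', A⁆ : Subgroup (S : Subgroup G)) :
      Set (S : Subgroup G))) with hB
    apply (Subgroup.map_eq_bot_iff_of_injective _ (S : Subgroup G).subtype_injective).1
    rw [map_commutator, hV'map, commutator_comm, commutator_eq_bot_iff_le_centralizer]
    rintro _ ⟨b, hb, rfl⟩
    apply key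
    apply Quad2.quad_iff.1
    have h6 : zpowers ((S : Subgroup G).subtype b) ≤ B.map (S : Subgroup G).subtype :=
      zpowers_le.2 ⟨b, hb, rfl⟩
    rw [eq_bot_iff]
    refine (commutator_mono (commutator_mono le_rfl h6) h6).trans ?_
    conv_lhs => rw [← hV'map]
    rw [← map_commutator, ← map_commutator, h2, Subgroup.map_bot]
  -- step 4
  have hSN : (S : Subgroup G) ≤ normalizer (Cfsg.thompsonSubgroupOf p (S : Subgroup G) : Set G) :=
    le_normalizer.trans (SylowN.normalizer_le_normalizer_thompsonOf _)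
  have hfr := SylowN.frattini S (centralizer (V : Set G))
  have hJle : Cfsg.thompsonSubgroupOf p (S : Subgroup G) ≤ (S : Subgroup G) ⊓
      centralizer (V : Set G) := le_inf (SylowN.thompsonOf_le _) hJ
  have hJeq := SylowN.thompsonOf_eq_of_le_of_le (p := p)
    (inf_le_left : (S : Subgroup G) ⊓ centralizer (V : Set G) ≤ S) hJle
  have hN1 : normalizer (((S : Subgroup G) ⊓ centralizer (V : Set G) : Subgroup G) : Set G) ≤
      normalizer (Cfsg.thompsonSubgroupOf p (S : Subgroup G) : Set G) := by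
    rw [← hJeq]
    exact SylowN.normalizer_le_normalizer_thompsonOf _
  have hemb := isStableEmbedding ⟨hst1, hst2, hst3⟩ hc S hSN
  have hnorm := StableClosure.map_closure_normal hemb
  have hNW : normalizer (Cfsg.thompsonSubgroupOf p (S : Subgroup G) : Set G) ≤
      normalizer (W : Set G) := by
    intro n hn
    have key2 : ∀ n ∈ normalizer (Cfsg.thompsonSubgroupOf p (S : Subgroup G) : Set G),
        ∀ w ∈ W, n * w * n⁻¹ ∈ W := by
      rintro n hn _ ⟨w, hw, rfl⟩
      have h1 := hnorm.conj_mem (inclusion hSN w) ⟨w, hw, rfl⟩ ⟨n, hn⟩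
      obtain ⟨y, hy, hyx⟩ := h1
      refine ⟨y, hy, ?_⟩
      have := congrArg Subtype.val hyx
      exact this
    apply Norm.mem_normalizer_of (key2 n hn)
    intro w hw
    have := key2 n⁻¹ (inv_mem hn) w hw
    rwa [inv_inv] at this
  have htop : normalizer (W : Set G) = ⊤ := by
    rw [eq_top_iff, ← hfr]
    refine sup_le (hN1.trans hNW) ?_
    exact (centralizer_le (SetLike.coe_subset_coe.2 hWV)).trans (centralizer_le_normalizer _)
  exact normalizer_eq_top_iff.1 htop

end H13.StableNormal
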