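import Mathlib.GroupTheory.IsSubnormal
import Mathlib.GroupTheory.Index
import Mathlib.Algebra.Group.Subgroup.Finite
import Cfsg.Agent.Lib.H13.Norm

set_option autoImplicit false

/-!
Wielandt's join theorem for subnormal subgroups of finite groups.
-/

namespace H13.Subnormal

open Subgroup

universe u v

variable {G : Type u} [Group G]

/-- A subnormal `K` and a normal `N` generate a subnormal subgroup. -/
theorem sup_normal {K N : Subgroup G} (hK : K.IsSubnormal) [N.Normal] : (K ⊔ N).IsSubnormal := by
  have h1 : (K.map (QuotientGroup.mk' N)).IsSubnormal :=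
    hK.map (QuotientGroup.mk'_surjective N)
  have h2 := h1.comap (QuotientGroup.mk' N)
  rwa [QuotientGroup.comap_map_mk', sup_comm] at h2

theorem isSubnormal_of_subgroupOf {H K : Subgroup G} (hHK : H ≤ K)
    (h1 : (H.subgroupOf K).IsSubnormal) (h2 : K.IsSubnormal) : H.IsSubnormal :=
  IsSubnormal.trans hHK h1 h2

theorem subgroupOf_sup {A B K : Subgroup G} (hA : A ≤ K) (hB : B ≤ K) :
    (A ⊔ B).subgroupOf K = A.subgroupOf K ⊔ B.subgroupOf K := by
  apply Subgroup.map_injective K.subtype_injective
  rw [Subgroup.map_sup, Subgroup.subgroupOf_map_subtype, Subgroup.subgroupOf_map_subtype,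
    Subgroup.subgroupOf_map_subtype, inf_eq_left.2 hA, inf_eq_left.2 hB,
    inf_eq_left.2 (sup_le hA hB)]

/-- If `K` is subnormal in `G` and normalizes `N` and the subnormal subgroup `H` of `N`, then
`H ⊔ K` is subnormal in `N ⊔ K`. -/
theorem sup_subgroupOf_aux [Finite G] (n : ℕ) : ∀ (N H K : Subgroup G), Nat.card N ≤ n → H ≤ N →
    (H.subgroupOf N).IsSubnormal → K ≤ normalizer (N : Set G) → K ≤ normalizer (H : Set G) →
    K.IsSubnormal → ((H ⊔ K).subgroupOf (N ⊔ K)).IsSubnormal := by
  induction n with
  | zero =>
    intro N H K hn
    have : 0 < Nat.card N := Nat.card_pos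
    omega
  | succ n ih =>
    intro N H K hn hHN hsub hKN hKH hK
    by_cases hne : H.subgroupOf N = ⊤
    · have h1 : H = N := le_antisymm hHN (subgroupOf_eq_top.1 hne)
      rw [h1, subgroupOf_self]
      exact IsSubnormal.top
    · -- the normal closure of `H` in `N`
      obtain ⟨M', hM'n, hM'le, hM'ne⟩ := (hsub.lt_normal.resolve_left hne)
      let M : Subgroup G := (normalClosure (H.subgroupOf N : Set N)).map N.subtype
      have hcl : normalClosure (H.subgroupOf N : Set N) ≤ M' := normalClosure_le_normal hM'le
      have hMN : M ≤ N := map_subtype_le _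
      have hHM : H ≤ M := by
        have h1 := Subgroup.map_mono (f := N.subtype)
          (subset_normalClosure : (H.subgroupOf N : Set N) ⊆ normalClosure (H.subgroupOf N : Set N))
        rwa [Subgroup.subgroupOf_map_subtype, inf_eq_left.2 hHN] at h1
      have hMeq : M.subgroupOf N = normalClosure (H.subgroupOf N : Set N) := by
        change (Subgroup.map N.subtype _).comap N.subtype = _
        rw [comap_map_eq_self_of_injective N.subtype_injective]
      have hNM : N ≤ normalizer (M : Set G) := by
        rw [← Subgroup.normal_subgroupOf_iff_le_normalizer hMN, hMeq]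
        infer_instance
      have hcard : Nat.card M < Nat.card N := by
        have h1 : Nat.card M = Nat.card (normalClosure (H.subgroupOf N : Set N)) :=
          (Nat.card_congr ((normalClosure (H.subgroupOf N : Set N)).equivMapOfInjective _
            N.subtype_injective).toEquiv).symm
        rw [h1]
        have h2 : normalClosure (H.subgroupOf N : Set N) < ⊤ := hcl.trans_lt hM'ne
        by_contra hge
        push Not at hge
        exact h2.ne (Subgroup.eq_top_of_le_card _ hge)
      have hKM : K ≤ normalizer (M : Set G) := by
        rw [le_normalizer_iff]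
        intro k hk m hm
        -- M is the smallest subgroup normalized by N containing H
        have key : M ≤ M.comap (MulAut.conj k).toMonoidHom := by
          change Subgroup.map N.subtype _ ≤ _
          rw [map_le_iff_le_comap]
          have hnorm : ((M.comap (MulAut.conj k).toMonoidHom).comap N.subtype).Normal := by
            constructor
            intro x hx g
            change k * (g * x * g⁻¹ : G) * k⁻¹ ∈ M
            have hx' : k * (x : G) * k⁻¹ ∈ M := hx
            have hg : k * (g : G) * k⁻¹ ∈ N := Norm.conj_mem hKN hk g.2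
            have := Norm.conj_mem hNM hg hx'
            have e : k * (g : G) * k⁻¹ * (k * (x : G) * k⁻¹) * (k * (g : G) * k⁻¹)⁻¹ =
              k * ((g : G) * (x : G) * (g : G)⁻¹) * k⁻¹ := by group
            rwa [e] at this
          apply normalClosure_le_normal
          intro x hx
          change k * (x : G) * k⁻¹ ∈ M
          exact hHM (Norm.conj_mem hKH hk hx)
        exact key hm
      -- induction
      have hsubM : (H.subgroupOf M).IsSubnormal := by
        have h1 : ((H.subgroupOf N).subgroupOf (M.subgroupOf N)).IsSubnormal := hsub.subgroupOf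
        have h2 := h1.map (f := (subgroupOfEquivOfLe hMN).toMonoidHom)
          (subgroupOfEquivOfLe hMN).surjective
        convert h2 using 1
        ext x
        constructor
        · intro hx
          exact ⟨(subgroupOfEquivOfLe hMN).symm x, hx, by simp⟩
        · rintro ⟨y, hy, rfl⟩
          exact hy
      have h3 := ih M H K (by omega) hHM hsubM hKM hKH hK
      -- M ⊔ K is subnormal in N ⊔ K
      have h4 : ((M ⊔ K).subgroupOf (N ⊔ K)).IsSubnormal := by
        rw [subgroupOf_sup (hMN.trans le_sup_left) le_sup_right,
          sup_comm (M.subgroupOf (N ⊔ K))]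
        have h5 : (M.subgroupOf (N ⊔ K)).Normal := by
          rw [Subgroup.normal_subgroupOf_iff_le_normalizer (hMN.trans le_sup_left)]
          exact sup_le hNM hKM
        exact sup_normal hK.subgroupOf
      have h6 : ((H ⊔ K).subgroupOf (N ⊔ K)) ≤ (M ⊔ K).subgroupOf (N ⊔ K) :=
        Subgroup.comap_mono (sup_le_sup_right hHM K)
      refine IsSubnormal.trans h6 ?_ h4
      -- transport
      have h7 : M ⊔ K ≤ N ⊔ K := sup_le_sup_right hMN K
      have h8 := h3.map (f := (subgroupOfEquivOfLe h7).symm.toMonoidHom)
        (subgroupOfEquivOfLe h7).symm.surjective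
      convert h8 using 1
      ext x
      constructor
      · intro hx
        exact ⟨subgroupOfEquivOfLe h7 x, hx, by simp⟩
      · rintro ⟨y, hy, rfl⟩
        exact hy

/-- If `H`, `K` are subnormal in the finite group `G` and `K` normalizes `H`, then `H ⊔ K` is
subnormal. -/
theorem sup_of_le_normalizer [Finite G] {H K : Subgroup G} (hH : H.IsSubnormal)
    (hK : K.IsSubnormal) (h : K ≤ normalizer (H : Set G)) : (H ⊔ K).IsSubnormal := by
  have h1 := sup_subgroupOf_aux (Nat.card (⊤ : Subgroup G)) ⊤ H K le_rfl le_top
    hH.subgroupOf (by rw [normalizer_eq_top]; exact le_top) h hK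
  rw [top_sup_eq] at h1
  exact IsSubnormal.trans le_top h1 IsSubnormal.top

theorem conj_isSubnormal {H : Subgroup G} (hH : H.IsSubnormal) (g : G) :
    (H.map (MulAut.conj g).toMonoidHom).IsSubnormal :=
  hH.map (f := (MulAut.conj g).toMonoidHom) (MulAut.conj g).surjective

/-- Wielandt's join theorem, in all finite groups of order at most `n`. -/
theorem sup_aux (n : ℕ) : ∀ (G : Type u) [Group G] [Finite G], Nat.card G ≤ n →
    ∀ H K : Subgroup G, H.IsSubnormal → K.IsSubnormal → (H ⊔ K).IsSubnormal := by
  induction n with
  | zero =>
    intro G _ _ hn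
    have : 0 < Nat.card G := Nat.card_pos
    omega
  | succ n ih =>
    intro G _ _ hn H K hH hK
    rcases hH.lt_normal with h1 | ⟨N, hNn, hHN, hNtop⟩
    · rw [h1, top_sup_eq]; exact IsSubnormal.top
    · -- joins of subnormal subgroups inside `N`
      have hcard : Nat.card N ≤ n := by
        have h2 : Nat.card N < Nat.card G := by
          by_contra hge
          push Not at hge
          exact hNtop.ne (Subgroup.eq_top_of_le_card _ hge)
        omega
      have hsupN : ∀ A B : Subgroup G, A ≤ N → B ≤ N → A.IsSubnormal → B.IsSubnormal →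
          (A ⊔ B).IsSubnormal := by
        intro A B hA hB hAs hBs
        have h3 := ih N hcard (A.subgroupOf N) (B.subgroupOf N) hAs.subgroupOf hBs.subgroupOf
        rw [← subgroupOf_sup hA hB] at h3
        exact IsSubnormal.trans (sup_le hA hB) h3 hNn.isSubnormal
      -- the join of all `K`-conjugates of `H`
      have hfin : ∀ s : Set G, s.Finite →
          ((⨆ g ∈ s, H.map (MulAut.conj g).toMonoidHom).IsSubnormal ∧
            (⨆ g ∈ s, H.map (MulAut.conj g).toMonoidHom) ≤ N) := by
        intro s hs
        induction s, hs using Set.Finite.induction_on with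
        | empty => simp
        | insert _ _ ih2 =>
          rename_i a s ha hs
          rw [iSup_insert]
          have h4 : H.map (MulAut.conj a).toMonoidHom ≤ N := by
            rintro _ ⟨x, hx, rfl⟩
            exact hNn.conj_mem x (hHN hx) a
          exact ⟨hsupN _ _ h4 ih2.2 (conj_isSubnormal hH a) ih2.1, sup_le h4 ih2.2⟩
      obtain ⟨h5, h6⟩ := hfin (K : Set G) (Set.toFinite _)
      set L := ⨆ g ∈ (K : Set G), H.map (MulAut.conj g).toMonoidHom with hL
      have hHL : H ≤ L := by
        have h7 : H.map (MulAut.conj (1 : G)).toMonoidHom ≤ L :=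
          le_iSup₂_of_le (1 : G) (one_mem K) le_rfl
        have h8 : H.map (MulAut.conj (1 : G)).toMonoidHom = H := by
          ext x; simp
        rwa [h8] at h7
      have hKL : K ≤ normalizer (L : Set G) := by
        rw [le_normalizer_iff]
        intro k hk x hx
        have h9 : L ≤ L.comap (MulAut.conj k).toMonoidHom := by
          refine iSup₂_le fun g hg => ?_
          rintro _ ⟨y, hy, rfl⟩
          rw [mem_comap]
          have h10 : H.map (MulAut.conj (k * g)).toMonoidHom ≤ L :=
            le_iSup₂_of_le (k * g) (mul_mem hk hg) le_rfl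
          apply h10
          refine ⟨y, hy, ?_⟩
          simp [mul_assoc]
        exact h9 hx
      have h11 : H ⊔ K = L ⊔ K := by
        refine le_antisymm (sup_le_sup_right hHL K) (sup_le ?_ le_sup_right)
        refine iSup₂_le fun g hg => ?_
        rintro _ ⟨y, hy, rfl⟩
        change g * y * g⁻¹ ∈ H ⊔ K
        exact mul_mem (mul_mem (le_sup_right (a := H) hg) (le_sup_left (a := H) hy))
          (inv_mem (le_sup_right (a := H) hg))
      rw [h11]
      exact sup_of_le_normalizer h5 hK hKL

/-- Wielandt: the join of two subnormal subgroups of a finite group is subnormal. -/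
theorem isSubnormal_sup [Finite G] {H K : Subgroup G} (hH : H.IsSubnormal) (hK : K.IsSubnormal) :
    (H ⊔ K).IsSubnormal := sup_aux (Nat.card G) G le_rfl H K hH hK

end H13.Subnormal
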