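import Mathlib
import Cfsg.Prelude.Def_PLocal
import Cfsg.Agent.Lib.H13.NPCFun
import Cfsg.Agent.Lib.H13.QStable
import Cfsg.Agent.Lib.H13.StableNormal
import Cfsg.Agent.Lib.H13.StableClosure
import Cfsg.Agent.Lib.H13.Transport

set_option autoImplicit false

/-!
`W(S)` as a functor.
-/

namespace H13.WSFun

open Subgroup H13.StableNormal

universe u

theorem ws_map {p : ℕ} {A B : Type u} [Group A] [Group B] (f : A →* B) (P : Subgroup A)
    (h : P ⊓ f.ker = ⊥) : (WS p P).map f = WS p (P.map f) := by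
  have h1 := StableClosure.map_closure (p := p) (Transport.equivMap P f h)
  have h2 := Transport.subtype_comp_equivMap P f h
  change ((Cfsg.stableNormalClosure p ↥P).map P.subtype).map f =
    (Cfsg.stableNormalClosure p ↥(P.map f)).map (P.map f).subtype
  rw [← h1, Subgroup.map_map, Subgroup.map_map, h2]

theorem ws_ne_bot {p : ℕ} [Fact p.Prime] {A : Type u} [Group A] [Finite A] {P : Subgroup A}
    (hP : IsPGroup p P) (hne : P ≠ ⊥) : WS p P ≠ ⊥ := by
  intro h
  have hnt : Nontrivial P := (nontrivial_iff_ne_bot P).2 hne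
  apply StableClosure.closure_ne_bot hP
  have h1 : (Cfsg.stableNormalClosure p ↥P).map P.subtype = ⊥ := h
  rwa [map_eq_bot_iff_of_injective _ P.subtype_injective] at h1

/-- the functor -/
def wsFun (p : ℕ) [Fact p.Prime] (hp2 : p ≠ 2) : NPCFun.NFun.{u} p where
  W := fun P => WS p P
  map := fun f P h => ws_map f P h
  le := fun P => ws_le P
  ne_bot := fun hP h => ws_ne_bot hP h
  normal := fun S h2 hC => StableNormal.main (QStable.isActionPStable (QStable.good_comm hp2) h2)
    hC S

/-- The `O_{p'}` version. -/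
theorem sup_normalizer_eq_top {p : ℕ} [hp : Fact p.Prime] {G : Type u} [Group G] [Finite G]
    (S : Sylow p G)
    (hn : ∀ T : Sylow p (G ⧸ Cfsg.pPrimeCore p G),
      (WS p (T : Subgroup (G ⧸ Cfsg.pPrimeCore p G))).Normal) :
    Cfsg.pPrimeCore p G ⊔ normalizer (WS p (S : Subgroup G) : Set G) = ⊤ := by
  set N := Cfsg.pPrimeCore p G with hN
  have hNc : (Nat.card N).Coprime p := Cores.coprime_card_pPrimeCore
  let π : G →* G ⧸ N := QuotientGroup.mk' N
  have hπ : Function.Surjective π := QuotientGroup.mk'_surjective N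
  have hker : π.ker = N := QuotientGroup.ker_mk' N
  have hinf : (S : Subgroup G) ⊓ π.ker = ⊥ := by
    rw [hker]
    exact Transport.inf_eq_bot_of_isPGroup_of_coprime S.2 hNc
  have h1 := hn (S.mapSurjective hπ)
  have h2 : WS p ((S.mapSurjective hπ : Sylow p (G ⧸ N)) : Subgroup (G ⧸ N)) =
      (WS p (S : Subgroup G)).map π := (ws_map π _ hinf).symm
  rw [h2] at h1
  rw [eq_top_iff]
  intro g _
  have h3 : ∀ a ∈ WS p (S : Subgroup G), g * a * g⁻¹ ∈ WS p (S : Subgroup G) ⊔ N := by
    intro a ha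
    have h4 : π (g * a * g⁻¹) ∈ (WS p (S : Subgroup G)).map π := by
      rw [map_mul, map_mul, map_inv]
      exact h1.conj_mem _ ⟨a, ha, rfl⟩ _
    obtain ⟨b, hb, hba⟩ := h4
    have h5 : b⁻¹ * (g * a * g⁻¹) ∈ N := by
      rw [← hker, MonoidHom.mem_ker, map_mul, map_inv, hba, inv_mul_cancel]
    have h6 : g * a * g⁻¹ = b * (b⁻¹ * (g * a * g⁻¹)) := by group
    rw [h6]
    exact mul_mem_sup hb h5
  obtain ⟨y, hy, n, hn', rfl⟩ := Transport.exists_mul_normalizer
    (S.2.to_le (ws_le (S : Subgroup G))) hNc h3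
  exact mul_mem_sup hy hn'

end H13.WSFun
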